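import Groth.Agent.JacAJ27.SymImage
import Groth.Agent.Clifford24.SmoothFamily
import Groth.Agent.CurveRR24.VeryAmple

/-!
# The canonical point of the Jacobian and Riemann–Roch at geometric points
-/

set_option autoImplicit false
set_option linter.style.haveILetI false
set_option backward.isDefEq.respectTransparency.types false
set_option maxHeartbeats 1000000

universe u

open CategoryTheory CategoryTheory.Limits AlgebraicGeometry MonoidalCategory CartesianMonoidalCategory
open scoped MonObj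
open Groth.Agent.PicLib Groth.Agent.AmpleLib Groth.Agent.CurveRR24 Groth.Agent.Coherent

namespace Groth.Agent.JacAJ27

/-- The differentials commute with base change. -/
theorem nonempty_omega_bc {X S S' X' : Scheme.{u}} {g' : X' ⟶ X} {f' : X' ⟶ S'} {f : X ⟶ S} {g : S' ⟶ S}
    [QuasiSeparated f] (hpb : IsPullback g' f' f g) :
    Nonempty ((Scheme.Modules.pullback g').obj (Omega.sheaf f) ≅ Omega.sheaf f') := by
  haveI : QuasiSeparated f' := MorphismProperty.of_isPullback (P := @QuasiSeparated) hpb inferInstance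
  obtain ⟨c, hc, -⟩ := Omega15.existsUnique_compat g' g hpb.w.symm (OmegaLib.isUniversal_dOmega f)
    (OmegaSh.dOmega f')
  haveI := Omega15.isIso_of_isPullback hpb (OmegaLib.isUniversal_dOmega f) (OmegaLib.isUniversal_dOmega f') hc
  exact ⟨asIso c⟩

section Drop

variable {k : Type u} [Field k] {C : Scheme.{u}} [C.Over (Spec (CommRingCat.of k))]
  [IsProper (C ↘ Spec (CommRingCat.of k))] [IsIntegral C] [Smooth (C ↘ Spec (CommRingCat.of k))]
  [GeometricallyIntegral (C ↘ Spec (CommRingCat.of k))] [IsAlgClosed k] (hdim : topologicalKrullDim C = 1)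

include hdim in
/-- An effective class has a section generating off its points. -/
theorem exists_glocus_of_effective {R : C} : ∀ (n : ℕ) (L : C.Modules) (hL : PicF.IsInvertible L) (P : Fin n → C)
    (hP : ∀ i, IsClosed ({P i} : Set C)), PicM.of hL * ∏ i, ptClass (k := k) hdim (hP i) = 1 → (∀ i, R ≠ P i) →
    ∃ s : Γ(L, ⊤), R ∈ glocus L s := by
  intro n
  induction n with
  | zero =>
    intro L hL P hP h _
    simp only [Finset.univ_eq_empty, Finset.prod_empty, mul_one] at h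
    obtain ⟨e⟩ := (PicM.of_eq_one_iff hL).1 h
    let one : Γ(Coh.structureModule C, ⊤) := oneSec ⊤
    refine ⟨e.inv.app ⊤ one, ?_⟩
    rw [show e.inv.app ⊤ one = e.symm.hom.app ⊤ one from rfl, glocus_map_iso]
    exact mem_glocus_oneSec R
  | succ n ih =>
    intro L hL P hP h hR
    rw [Fin.prod_univ_succ, ← mul_assoc, mul_comm (PicM.of hL)] at h
    have hI := isInvertible_pt (k := k) hdim (hP 0)
    obtain ⟨z, hz⟩ := ih (CohB1.tensorMod (ClSub.idealMod (ptIdeal (P 0) (hP 0))) L)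
      (isInvertible_tensorMod hI hL) (fun i => P i.succ) (fun i => hP i.succ)
      (by rw [← PicM.of_mul hI hL]; exact h) (fun i => hR i.succ)
    exact ⟨_, mem_glocus_twistMul hL z (fun hh => hR 0 ((support_ptIdeal (hP 0)).le hh)) hz⟩

include hdim in
/-- Off the points of an effective class the number of sections drops. -/
theorem h0Cls_drop (n : ℕ) (A : PicM C) (P : Fin n → C) (hP : ∀ i, IsClosed ({P i} : Set C))
    (h : A * ∏ i, ptClass (k := k) hdim (hP i) = 1) {R : C} (hR : IsClosed ({R} : Set C)) (hne : ∀ i, R ≠ P i) :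
    h0Cls k (A * ptClass (k := k) hdim hR) < h0Cls k A := by
  haveI := EulerLib.isNoetherian_of_proper k (X := C)
  obtain ⟨L, hL, rfl⟩ := PicM.exists_eq_of A
  obtain ⟨s, hs⟩ := exists_glocus_of_effective hdim n L hL P hP h hne
  have hI := isInvertible_pt (k := k) hdim hR
  rw [ptClass, PicM.of_mul hL hI, h0Cls_of, h0Cls_of]
  exact lt_of_le_of_ne (h0_tensor_ptIdeal k hR hL).1 (h0_ne_of_mem_glocus k hR hL hs)

variable (k) in
/-- The canonical class. -/
noncomputable def omegaCls : PicM C :=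
  PicM.of (OmegaDual24.isInvertible_omega (k := k) (X := C) hdim)

include hdim in
/-- Riemann–Roch on classes. -/
theorem riemann_roch_cls {A A' : PicM C} (h : A * A' = 1) :
    (h0Cls k A : ℤ) - h0Cls k (omegaCls k hdim * A') = degCls k A + 1 - (Curv2.genus k C : ℤ) := by
  obtain ⟨L, hL, rfl⟩ := PicM.exists_eq_of A
  obtain ⟨N, hN, rfl⟩ := PicM.exists_eq_of A'
  rw [PicM.of_mul hL hN, PicM.of_eq_one_iff] at h
  rw [omegaCls, PicM.of_mul (OmegaDual24.isInvertible_omega (k := k) (X := C) hdim) hN, h0Cls_of, h0Cls_of,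
    degCls_of]
  exact Clifford24.riemann_roch_omega k hdim hL hN h.some

end Drop

section Core

variable {k : Type u} [Field k] {C : Scheme.{u}} [C.Over (Spec (CommRingCat.of k))]
  [IsProper (C ↘ Spec (CommRingCat.of k))]
  [Smooth (C ↘ Spec (CommRingCat.of k))] [IsIntegral C] [GeometricallyIntegral (C ↘ Spec (CommRingCat.of k))]
  [IsAlgClosed k]
variable {J : Over (Spec (CommRingCat.of k))} [GrpObj J] [IsCommMonObj J]
variable {ψ : (ModFun.PicDeg (C ↘ Spec (CommRingCat.of k)) 0).Hom ⊤ J}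
  (hJ : Jac.IsJacobian (C ↘ Spec (CommRingCat.of k)) ⊤ J ψ) (hdim : topologicalKrullDim C = 1)
  {σ : Spec (CommRingCat.of k) ⟶ C} (hσ : σ ≫ (C ↘ Spec (CommRingCat.of k)) = 𝟙 _)

/-- The point of the Jacobian of the canonical class, twisted to degree zero. -/
def IsKappa (ψ : (ModFun.PicDeg (C ↘ Spec (CommRingCat.of k)) 0).Hom ⊤ J) (σ : Spec (CommRingCat.of k) ⟶ C) (m : ℕ)
    (κ : (𝟙_ (Over (Spec (CommRingCat.of k)))) ⟶ J) : Prop :=
  ∃ (Kf : (PicF.XT (C ↘ Spec (CommRingCat.of k)) (𝟙_ (Over (Spec (CommRingCat.of k))))).Modules)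
    (h : (ModFun.PicDeg (C ↘ Spec (CommRingCat.of k)) 0).ok (𝟙_ (Over (Spec (CommRingCat.of k)))) Kf),
    Nonempty (Kf ≅ (Scheme.Modules.pullback (pullback.fst (C ↘ Spec (CommRingCat.of k))
      (𝟙_ (Over (Spec (CommRingCat.of k)))).hom)).obj
      (CohB1.tensorMod (Omega.sheaf (C ↘ Spec (CommRingCat.of k))) (CohB1.tensorPow (ClSub.idealMod σ.ker) m))) ∧
    ψ.app (𝟙_ (Over (Spec (CommRingCat.of k)))) Kf trivial h = κ

variable {Ω : Type u} [Field Ω] [IsAlgClosed Ω] [Algebra k Ω]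

include hJ hdim hσ in
theorem cls_kappa {m : ℕ} {κ : (𝟙_ (Over (Spec (CommRingCat.of k)))) ⟶ J} (hκ : IsKappa ψ σ m κ) :
    cls hJ (cst Ω κ) = omegaCls Ω (dim_XPt hdim) * baseCls σ hσ hdim ^ m := by
  haveI := GenSmoothLib.smoothOfRelativeDimension_toField (C ↘ Spec (CommRingCat.of k)) (d := 1)
    (by rw [hdim]; rfl)
  obtain ⟨Kf, hok, hKf, rfl⟩ := hκ
  have hΩ : PicF.IsInvertible (Omega.sheaf (C ↘ Spec (CommRingCat.of k))) :=
    OmegaDual24.isInvertible_omega (k := k) hdim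
  have hI := PicTau27.isInvertible_point σ hσ
  have hW := isInvertible_tensorMod hΩ (isInvertible_tensorPow hI m)
  rw [cst, ← ψ.natural (toUnit (tPt Ω)) Kf trivial trivial hok (ok_pull _ hok), cls_app]
  have hKi := isInvertible_of_ok hok
  show PicM.of (L := (Scheme.Modules.pullback (PicF.XTmap _ (toUnit (tPt Ω)))).obj Kf) _ = _
  rw [← PicM.pull_of (PicF.XTmap (C ↘ Spec (CommRingCat.of k)) (toUnit (tPt Ω))) hKi,
    show PicM.of hKi = PicM.pull (pullback.fst (C ↘ Spec (CommRingCat.of k))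
      (𝟙_ (Over (Spec (CommRingCat.of k)))).hom) (PicM.of hW) from
      (by rw [PicM.pull_of, PicM.of_eq_iff]; exact hKf), PicM.pull_pull]
  have e : PicF.XTmap (C ↘ Spec (CommRingCat.of k)) (toUnit (tPt Ω)) ≫
      pullback.fst (C ↘ Spec (CommRingCat.of k)) (𝟙_ (Over (Spec (CommRingCat.of k)))).hom =
      pullback.fst (C ↘ Spec (CommRingCat.of k)) (Spec.map (CommRingCat.ofHom (algebraMap k Ω))) :=
    (pullback.lift_fst _ _ _).trans (Category.comp_id _)
  refine (congrArg (fun f => PicM.pull f (PicM.of hW)) e).trans ?_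
  rw [← PicM.of_mul hΩ (isInvertible_tensorPow hI m), PicM.of_tensorPow hI, map_mul, map_pow]
  congr 1
  rw [omegaCls, PicM.pull_of, PicM.of_eq_iff]
  exact nonempty_omega_bc (IsPullback.of_hasPullback _ _)

variable {j : Over.mk (C ↘ Spec (CommRingCat.of k)) ⟶ J}
  (hj : Jac.IsAbelJacobiAt (C ↘ Spec (CommRingCat.of k)) σ ψ j)

include hj hJ in
theorem degCls_cls_mul_pow {c' : PicM (XPt (k := k) C Ω)} (hc : baseCls σ hσ hdim * c' = 1) (n : ℕ) (a : tPt Ω ⟶ J) :
    degCls Ω (cls hJ a * c' ^ n) = n := by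
  have hc1 := degCls_baseCls_inv hJ hdim hσ hj hc (cst Ω (Over.homMk σ hσ))
  rw [degCls_mul (dim_XPt hdim).le, degCls_cls, zero_add]
  induction n with
  | zero => simp [degCls_one]
  | succ n ih => rw [pow_succ, degCls_mul (dim_XPt hdim).le, ih, hc1]; push_cast; ring

include hj in
/-- Riemann–Roch: the reflection at the canonical point. -/
theorem rr_reflect {g : ℕ} (hg : Curv2.genus k C = g) {κ : (𝟙_ (Over (Spec (CommRingCat.of k)))) ⟶ J} {m n : ℕ}
    (hmn : m + n = 2 * g - 2) (hκ : IsKappa ψ σ (2 * g - 2) κ) {c' : PicM (XPt (k := k) C Ω)}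
    (hc : baseCls σ hσ hdim * c' = 1) (w : tPt Ω ⟶ J) :
    (h0Cls Ω (cls hJ w * c' ^ m) : ℤ) - h0Cls Ω (cls hJ (cst Ω κ * w⁻¹) * c' ^ n) = (m : ℤ) + 1 - g := by
  let c := baseCls (Ω := Ω) σ hσ hdim
  have hwinv : cls hJ w * cls hJ w⁻¹ = 1 := by
    rw [← cls_mul hJ hdim.le, mul_inv_cancel, cls_one hJ hdim.le]
  have hA : cls hJ w * c' ^ m * (cls hJ w⁻¹ * c ^ m) = 1 := by
    rw [mul_mul_mul_comm, hwinv, _root_.one_mul, ← mul_pow, mul_comm, hc, one_pow]
  have h := riemann_roch_cls (k := Ω) (dim_XPt hdim) hA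
  rw [degCls_cls_mul_pow hJ hdim hσ hj hc, genus_XPt, hg] at h
  have e : omegaCls Ω (dim_XPt hdim) * (cls hJ w⁻¹ * c ^ m) = cls hJ (cst Ω κ * w⁻¹) * c' ^ n := by
    rw [cls_mul hJ hdim.le, cls_kappa hJ hdim hσ hκ]
    calc omegaCls Ω (dim_XPt hdim) * (cls hJ w⁻¹ * c ^ m)
        = omegaCls Ω (dim_XPt hdim) * (cls hJ w⁻¹ * c ^ m) * (c * c') ^ n := by
          rw [hc, one_pow, _root_.mul_one]
      _ = _ := by rw [← hmn, mul_pow, pow_add]; ac_rfl
  rwa [e] at h

end Core

end Groth.Agent.JacAJ27
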