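import Groth.Agent.JacAJ27.CurvePts
import Groth.Agent.Clifford24.Main
import Groth.Agent.Hyper24.BiratH1

/-!
# Effective classes and general points on a curve over an algebraically closed field
-/

set_option autoImplicit false
set_option linter.style.haveILetI false
set_option backward.isDefEq.respectTransparency.types false
set_option maxHeartbeats 1000000

universe u

open CategoryTheory CategoryTheory.Limits AlgebraicGeometry Opposite TopologicalSpace
open Groth.Agent.Coherent Groth.Agent.PicLib Groth.Agent.AmpleLib Groth.Agent.EulerLib Groth.Agent.CurveRR24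

namespace Groth.Agent.JacAJ27

variable {k : Type u} [Field k] {C : Scheme.{u}} [C.Over (Spec (CommRingCat.of k))]

variable (k) in
/-- The degree of a class. -/
noncomputable def degCls (a : PicM C) : ℤ := Curv2.deg k C (PicM.exists_eq_of a).choose 1

variable (k) in
/-- The number of sections of a class. -/
noncomputable def h0Cls (a : PicM C) : ℕ := Module.finrank k (Coh.HH C (PicM.exists_eq_of a).choose 0)

theorem degCls_of {L : C.Modules} (hL : PicF.IsInvertible L) : degCls k (PicM.of hL) = Curv2.deg k C L 1 := by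
  obtain ⟨h, he⟩ := (PicM.exists_eq_of (PicM.of hL)).choose_spec
  obtain ⟨i⟩ := (PicM.of_eq_iff hL h).1 he
  exact deg_congr k i.symm 1

theorem h0Cls_of {L : C.Modules} (hL : PicF.IsInvertible L) :
    h0Cls k (PicM.of hL) = Module.finrank k (Coh.HH C L 0) := by
  obtain ⟨h, he⟩ := (PicM.exists_eq_of (PicM.of hL)).choose_spec
  obtain ⟨i⟩ := (PicM.of_eq_iff hL h).1 he
  exact finrank_HH_congr k i.symm 0

variable [IsProper (C ↘ Spec (CommRingCat.of k))]

theorem degCls_mul (hdim : topologicalKrullDim C ≤ 1) (a b : PicM C) :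
    degCls k (a * b) = degCls k a + degCls k b := by
  obtain ⟨L, hL, rfl⟩ := PicM.exists_eq_of a
  obtain ⟨M, hM, rfl⟩ := PicM.exists_eq_of b
  rw [PicM.of_mul hL hM, degCls_of, degCls_of, degCls_of, deg_tensor k hdim hL hM]

theorem degCls_one : degCls k (1 : PicM C) = 0 := by
  rw [← PicM.of_structureModule isInvertible_structureModule, degCls_of, deg_structure]

variable [IsIntegral C] [Smooth (C ↘ Spec (CommRingCat.of k))] [GeometricallyIntegral (C ↘ Spec (CommRingCat.of k))]
  [IsAlgClosed k] (hdim : topologicalKrullDim C = 1)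

theorem degCls_ptClass {P : C} (hP : IsClosed ({P} : Set C)) : degCls k (ptClass (k := k) hdim hP) = -1 := by
  rw [ptClass, degCls_of, deg_ptIdeal k hP, finrank_resField k hP]
  norm_num

theorem degCls_prod_ptClass {n : ℕ} (P : Fin n → C) (hP : ∀ i, IsClosed ({P i} : Set C)) :
    degCls k (∏ i, ptClass (k := k) hdim (hP i)) = -(n : ℤ) := by
  induction n with
  | zero => simp [degCls_one]
  | succ n ih =>
    rw [Fin.prod_univ_succ, degCls_mul hdim.le, degCls_ptClass, ih (fun i => P i.succ) fun i => hP i.succ]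
    push_cast
    ring

include hdim in
/-- A class with a section is effective. -/
theorem exists_effective : ∀ (n : ℕ) (a : PicM C), degCls k a = n → 0 < h0Cls k a →
    ∃ (P : Fin n → C) (hP : ∀ i, IsClosed ({P i} : Set C)), a * ∏ i, ptClass (k := k) hdim (hP i) = 1 := by
  intro n
  haveI := EulerLib.isNoetherian_of_proper k (X := C)
  induction n with
  | zero =>
    intro a hd h0
    obtain ⟨L, hL, rfl⟩ := PicM.exists_eq_of a
    rw [degCls_of] at hd
    rw [h0Cls_of] at h0
    obtain ⟨e⟩ := (deg_nonneg_of_section k hdim.le hL (Module.nontrivial_of_finrank_pos h0)).2.1 (by simpa using hd)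
    refine ⟨Fin.elim0, fun i => i.elim0, ?_⟩
    rw [(PicM.of_eq_one_iff hL).2 ⟨e⟩]
    simp
  | succ n ih =>
    intro a hd h0
    obtain ⟨N, hN, rfl⟩ := PicM.exists_eq_of a
    rw [degCls_of] at hd
    rw [h0Cls_of] at h0
    haveI := finite_HH_of_isCoh k (isCoh_of_isInvertible k hN) 0
    haveI : Module.Finite k (GA (baseHom k C) N) := Module.Finite.equiv (hhZero k N)
    obtain ⟨Q, hQ, hpos⟩ : ∃ (Q : C) (hQ : IsClosed ({Q} : Set C)),
        0 < Module.finrank k (Coh.HH C (CohB1.tensorMod N (ClSub.idealMod (ptIdeal Q hQ))) 0) := by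
      haveI : JacobsonSpace ↥C := LocallyOfFiniteType.jacobsonSpace (C ↘ Spec (CommRingCat.of k))
      by_cases h2 : 2 ≤ Module.finrank k (Coh.HH C N 0)
      · obtain ⟨Q, -, hQ⟩ := nonempty_inter_closedPoints (X := C) Set.univ_nonempty isClosed_univ.isLocallyClosed
        refine ⟨Q, hQ, ?_⟩
        have := (h0_tensor_ptIdeal k hQ hN).2
        rw [finrank_resField k hQ] at this
        omega
      obtain ⟨s, hs⟩ := exists_ne_zero_of_nontrivial k
        (Module.nontrivial_of_finrank_pos (R := k) (M := Coh.HH C N 0) h0)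
      have hne : ∃ x, x ∉ glocus N s := by
        by_contra hall
        push Not at hall
        have hempty : CohB1.support (cokernel (unitDesc N s)) = ∅ :=
          Set.subset_empty_iff.1 fun x hx => support_cokernel_unitDesc s hx (hall x)
        haveI := mono_unitDesc hN hs
        haveI : Epi (unitDesc N s) := Abelian.epi_of_cokernel_π_eq_zero _
          ((isZero_of_support_eq_empty hempty).eq_of_tgt _ _)
        haveI : IsIso (unitDesc N s) := isIso_of_mono_of_epi _
        rw [← deg_congr k (asIso (unitDesc N s)) 1, deg_structure] at hd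
        push_cast at hd
        omega
      obtain ⟨x, hx⟩ := hne
      obtain ⟨Q, hQx, hQ⟩ := (isClosed_closure (s := ({x} : Set C))).exists_closed_singleton ⟨x, subset_closure rfl⟩
      have hsQ : Q ∉ glocus N s := fun h' => hx ((specializes_iff_mem_closure.2 hQx).mem_open (glocus N s).2 h')
      refine ⟨Q, hQ, ?_⟩
      rw [h0_eq_of_all_vanish k hQ hN fun t ht => ?_]
      · omega
      let E := hhZero k N
      obtain ⟨c, hc⟩ := exists_smul_eq_of_finrank_eq_one (show Module.finrank k (Coh.HH C N 0) = 1 by omega)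
        (x := E.symm s) (fun h => hs (E.symm.map_eq_zero_iff.1 h)) (E.symm t)
      rw [← map_smul] at hc
      replace hc := E.symm.injective hc
      have hc' : baseHom k C c • s = t := hc
      refine (mem_glocus_iff_germ hN t Q).1 ht ?_
      rw [← hc', QCohLoc.germ_smul']
      exact Submodule.smul_mem _ _ (not_not.1 ((mem_glocus_iff_germ hN s Q).not.1 hsQ))
    have hI := isInvertible_pt (k := k) hdim hQ
    obtain ⟨P, hP, h⟩ := ih (PicM.of (isInvertible_tensorMod hN hI)) (by
      rw [degCls_of, deg_tensor_ptIdeal k hQ hN, finrank_resField k hQ, hd]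
      push_cast
      ring) (by rw [h0Cls_of]; exact hpos)
    refine ⟨Fin.cons Q P, Fin.cases hQ hP, ?_⟩
    rw [Fin.prod_univ_succ, ← mul_assoc]
    refine Eq.trans ?_ h
    congr 1

include hdim in
/-- Effective classes have sections. -/
theorem h0Cls_pos_of_effective : ∀ (n : ℕ) (a : PicM C) (P : Fin n → C) (hP : ∀ i, IsClosed ({P i} : Set C)),
    a * ∏ i, ptClass (k := k) hdim (hP i) = 1 → 0 < h0Cls k a := by
  intro n
  haveI := EulerLib.isNoetherian_of_proper k (X := C)
  induction n with
  | zero =>
    intro a P hP h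
    simp only [Finset.univ_eq_empty, Finset.prod_empty, mul_one] at h
    subst h
    rw [← PicM.of_structureModule isInvertible_structureModule, h0Cls_of, h0_structure k (X := C)]
    exact one_pos
  | succ n ih =>
    intro a P hP h
    obtain ⟨N, hN, rfl⟩ := PicM.exists_eq_of a
    rw [Fin.prod_univ_succ, ← mul_assoc] at h
    have := ih _ (fun i => P i.succ) (fun i => hP i.succ) h
    rw [ptClass, PicM.of_mul hN (isInvertible_pt (k := k) hdim (hP 0)), h0Cls_of] at this
    rw [h0Cls_of]
    exact this.trans_le (h0_tensor_ptIdeal k (hP 0) hN).1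

include hdim in
/-- Adding a general point to a non effective class of degree less than `g - 1` leaves it non effective. -/
theorem exists_finite_bad (a : PicM C) (h0 : h0Cls k a = 0) (hd : degCls k a + 1 < Curv2.genus k C) :
    ∃ B : Set C, B.Finite ∧ ∀ (P : C) (hP : IsClosed ({P} : Set C)), P ∉ B →
      ∀ b : PicM C, b * ptClass (k := k) hdim hP = a → h0Cls k b = 0 := by
  haveI := EulerLib.isNoetherian_of_proper k (X := C)
  obtain ⟨L, hL, rfl⟩ := PicM.exists_eq_of a
  rw [h0Cls_of] at h0
  rw [degCls_of] at hd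
  obtain ⟨L', hL', ⟨e⟩⟩ := CurveRR24.exists_inverse k hL
  let N := CohB1.tensorMod (Omega.sheaf (C ↘ Spec (CommRingCat.of k))) L'
  have hΩ : PicF.IsInvertible (Omega.sheaf (C ↘ Spec (CommRingCat.of k))) :=
    OmegaDual24.isInvertible_omega (k := k) hdim
  have hN : PicF.IsInvertible N := isInvertible_tensorMod hΩ hL'
  have hrr := Clifford24.riemann_roch_omega k hdim hL hL' e
  change _ - (Module.finrank k (Coh.HH C N 0) : ℤ) = _ at hrr
  obtain ⟨s, hs⟩ := exists_ne_zero_of_nontrivial k
    (Module.nontrivial_of_finrank_pos (R := k) (M := Coh.HH C N 0) (by omega))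
  have hdense : Dense ((glocus N s : C.Opens) : Set C) :=
    (glocus N s).2.dense ⟨genericPoint C, genericPoint_mem_glocus hN hs⟩
  refine ⟨_, (Hyper24.finite_compl_dense (k := k) hdim.le hdense).1, fun P hP hPB b hb => ?_⟩
  obtain ⟨M, hM, rfl⟩ := PicM.exists_eq_of b
  have hPs : P ∈ glocus N s := not_not.1 hPB
  have hI := isInvertible_pt (k := k) hdim hP
  have hne := h0_ne_of_mem_glocus k hP hN hPs
  obtain ⟨hle, hge⟩ := h0_tensor_ptIdeal k hP hN
  rw [finrank_resField k hP] at hge
  -- the inverse of `M`
  let M' := CohB1.tensorMod L' (ClSub.idealMod (ptIdeal P hP))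
  have hM' : PicF.IsInvertible M' := isInvertible_tensorMod hL' hI
  obtain ⟨e'⟩ : Nonempty (CohB1.tensorMod M M' ≅ Coh.structureModule C) := by
    rw [← PicM.of_eq_one_iff (isInvertible_tensorMod hM hM'), ← PicM.of_mul hM hM', ← PicM.of_mul hL' hI]
    rw [show PicM.of hM * (PicM.of hL' * PicM.of hI) = PicM.of hM * ptClass (k := k) hdim hP * PicM.of hL' from by
      rw [ptClass]; ac_rfl, hb, PicM.of_mul hL hL', PicM.of_eq_one_iff]
    exact ⟨e⟩
  have hrr' := Clifford24.riemann_roch_omega k hdim hM hM' e'
  obtain ⟨i⟩ : Nonempty (CohB1.tensorMod (Omega.sheaf (C ↘ Spec (CommRingCat.of k))) M' ≅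
      CohB1.tensorMod N (ClSub.idealMod (ptIdeal P hP))) := by
    rw [← PicM.of_eq_iff (isInvertible_tensorMod hΩ hM') (isInvertible_tensorMod hN hI),
      ← PicM.of_mul hΩ hM', ← PicM.of_mul hL' hI, ← PicM.of_mul hN hI, ← PicM.of_mul hΩ hL', mul_assoc]
  rw [finrank_HH_congr k i 0] at hrr'
  have hdeg : Curv2.deg k C M 1 = Curv2.deg k C L 1 + 1 := by
    have h := congrArg (degCls k) hb
    rw [degCls_mul hdim.le, degCls_ptClass, degCls_of, degCls_of] at h
    omega
  rw [h0Cls_of]
  omega

end Groth.Agent.JacAJ27
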