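import Groth.Agent.JacAJ27.CurvePts
import Groth.Agent.PicTau27.CurveAlg
import Groth.Agent.DimLib.BaseChange
import Groth.Prelude.Def_Jac

/-!
# The Abel map on rational points

Products of values of the Abel map determine the classes of the ideals of the corresponding points.
-/

set_option autoImplicit false
set_option linter.style.haveILetI false
set_option backward.isDefEq.respectTransparency.types false
set_option maxHeartbeats 1000000

universe u

open CategoryTheory CategoryTheory.Limits AlgebraicGeometry MonoidalCategory CartesianMonoidalCategory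
open scoped MonObj
open Groth.Agent.PicLib Groth.Agent.AmpleLib

namespace Groth.Agent.JacAJ27

section Families

variable {X S : Scheme.{u}} {f : X ⟶ S} {d : ℤ}

theorem XTmap_comp {T T' T'' : Over S} (g : T' ⟶ T) (h : T'' ⟶ T') :
    PicF.XTmap f (h ≫ g) = PicF.XTmap f h ≫ PicF.XTmap f g := by
  simp [PicF.XTmap, pullback.map_comp]

theorem isInvertible_of_ok {T : Over S} {L : (PicF.XT f T).Modules} (h : (ModFun.PicDeg f d).ok T L) :
    PicF.IsInvertible L := fun x => by
  obtain ⟨V, hx, ⟨e⟩⟩ := h.1.2 x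
  exact ⟨V, hx, ⟨e ≪≫ freeModOneIso _⟩⟩

/-- The fibre condition at any geometric point. -/
theorem fibDeg_apply {T : Over S} {E : (PicF.XT f T).Modules} (h : ModFun.FibDeg f 1 d T E) (Ω : Type u) [Field Ω]
    [IsAlgClosed Ω] (s : Spec (CommRingCat.of Ω) ⟶ S) (a : Over.mk s ⟶ T) :
    letI : (PicF.XT f (Over.mk s)).Over (Spec (CommRingCat.of Ω)) := ⟨PicF.XTproj f (Over.mk s)⟩
    Curv2.deg Ω (PicF.XT f (Over.mk s)) ((Scheme.Modules.pullback (PicF.XTmap f a)).obj E) 1 = d := by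
  have key : ∀ (t : Spec (CommRingCat.of Ω) ⟶ T.left) (s : Spec (CommRingCat.of Ω) ⟶ S) (w : t ≫ T.hom = s),
      letI : (PicF.XT f (Over.mk s)).Over (Spec (CommRingCat.of Ω)) := ⟨PicF.XTproj f (Over.mk s)⟩
      Curv2.deg Ω (PicF.XT f (Over.mk s)) ((Scheme.Modules.pullback (PicF.XTmap f
        (Over.homMk t w : Over.mk s ⟶ T))).obj E) 1 = d := by
    intro t s w
    subst w
    exact h Ω t
  exact key a.left s (Over.w a)

theorem ok_pull {T T' : Over S} (g : T' ⟶ T) {L : (PicF.XT f T).Modules} (h : (ModFun.PicDeg f d).ok T L) :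
    (ModFun.PicDeg f d).ok T' ((ModFun.PicDeg f d).pull g L) := by
  refine ⟨⟨trivial, isFinLocFreeOfRank_one (PicLoc.isInvertible_pullback _ (isInvertible_of_ok h))⟩,
    fun Ω _ _ t => ?_⟩
  letI : (PicF.XT f (Over.mk (t ≫ T'.hom))).Over (Spec (CommRingCat.of Ω)) :=
    ⟨PicF.XTproj f (Over.mk (t ≫ T'.hom))⟩
  let a : Over.mk (t ≫ T'.hom) ⟶ T' := Over.homMk t rfl
  refine (CurveRR24.deg_congr Ω ?_ 1).trans (fibDeg_apply h.2 Ω _ (a ≫ g))
  exact (Scheme.Modules.pullbackComp (PicF.XTmap f a) (PicF.XTmap f g)).app L ≪≫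
    (Scheme.Modules.pullbackCongr (XTmap_comp g a).symm).app L

end Families

variable {k : Type u} [Field k] {C : Scheme.{u}} [C.Over (Spec (CommRingCat.of k))]
  [IsProper (C ↘ Spec (CommRingCat.of k))]

local notation "q" => C ↘ Spec (CommRingCat.of k)

theorem ok_tensor (hdim : topologicalKrullDim C ≤ 1) {d e : ℤ} {T : Over (Spec (CommRingCat.of k))}
    {L M : (PicF.XT q T).Modules} (hL : (ModFun.PicDeg q d).ok T L) (hM : (ModFun.PicDeg q e).ok T M) :
    (ModFun.PicDeg q (d + e)).ok T (CohB1.tensorMod L M) := by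
  have hLi := isInvertible_of_ok hL
  have hMi := isInvertible_of_ok hM
  refine ⟨⟨trivial, isFinLocFreeOfRank_one (isInvertible_tensorMod hLi hMi)⟩, fun Ω _ _ t => ?_⟩
  let a : Over.mk (t ≫ T.hom) ⟶ T := Over.homMk t rfl
  let Z := PicF.XT q (Over.mk (t ≫ T.hom))
  letI : Z.Over (Spec (CommRingCat.of Ω)) := ⟨PicF.XTproj q (Over.mk (t ≫ T.hom))⟩
  haveI : IsProper (Z ↘ Spec (CommRingCat.of Ω)) := MorphismProperty.pullback_snd _ _ inferInstance
  have hd : topologicalKrullDim Z ≤ 1 := by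
    obtain ⟨φ, hφ⟩ := Spec.map_surjective (t ≫ T.hom)
    letI : Algebra k Ω := φ.hom.toAlgebra
    show topologicalKrullDim ↥(pullback q (t ≫ T.hom)) ≤ 1
    rw [← hφ]
    exact (DimLib.topologicalKrullDim_bc q Ω).trans_le hdim
  have hLp := PicLoc.isInvertible_pullback (PicF.XTmap q a) hLi
  have hMp := PicLoc.isInvertible_pullback (PicF.XTmap q a) hMi
  obtain ⟨i⟩ : Nonempty ((Scheme.Modules.pullback (PicF.XTmap q a)).obj (CohB1.tensorMod L M) ≅
      CohB1.tensorMod ((Scheme.Modules.pullback (PicF.XTmap q a)).obj L)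
        ((Scheme.Modules.pullback (PicF.XTmap q a)).obj M)) := by
    rw [← PicM.of_eq_iff (PicLoc.isInvertible_pullback _ (isInvertible_tensorMod hLi hMi))
      (isInvertible_tensorMod hLp hMp), ← PicM.pull_of _ (isInvertible_tensorMod hLi hMi), ← PicM.of_mul hLi hMi,
      map_mul, ← PicM.of_mul hLp hMp]
    rfl
  refine (CurveRR24.deg_congr Ω i 1).trans ?_
  rw [CurveRR24.deg_tensor Ω hd hLp hMp, fibDeg_apply hL.2 Ω _ a, fibDeg_apply hM.2 Ω _ a]

variable [IsAlgClosed k] [SmoothOfRelativeDimension 1 (C ↘ Spec (CommRingCat.of k))]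

/-- The ideal class of a rational point. -/
noncomputable def secClass (P : Spec (CommRingCat.of k) ⟶ C) (hP : P ≫ q = 𝟙 _) : PicM C :=
  PicM.of (PicTau27.isInvertible_point P hP)

variable {J : Over (Spec (CommRingCat.of k))} [GrpObj J]

local notation "U" => (𝟙_ (Over (Spec (CommRingCat.of k))))

/-- `C` as the fibre over the base. -/
noncomputable def toFibre : C ⟶ PicF.XT q U :=
  pullback.lift (𝟙 C) q (by rw [Category.id_comp]; exact (Category.comp_id _).symm)

theorem exists_point_family (ψ : (ModFun.PicDeg q 0).Hom ⊤ J) (σ : Spec (CommRingCat.of k) ⟶ C) (hσ : σ ≫ q = 𝟙 _)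
    (j : Over.mk q ⟶ J) (hj : Jac.IsAbelJacobiAt q σ ψ j) (x : U ⟶ Over.mk q) :
    ∃ (L : (PicF.XT q U).Modules) (hL : (ModFun.PicDeg q 0).ok U L),
      ψ.app U L trivial hL = x ≫ j ∧
      PicM.pull (toFibre (k := k) (C := C)) (PicM.of (isInvertible_of_ok hL)) * secClass (C := C) x.left (Over.w x) =
        secClass σ hσ := by
  obtain ⟨hT, L, hok, ⟨hLi, hAJ⟩, rfl⟩ := hj
  refine ⟨(ModFun.PicDeg q 0).pull x L, ok_pull x hok, ψ.natural x L hT trivial hok _, ?_⟩
  let P : Spec (CommRingCat.of k) ⟶ C := x.left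
  have hx : P ≫ q = 𝟙 _ := Over.w x
  have hD := FlatMor12.IdealModGen.isInvertible_idealMod _ (PicTau27.isEffCartier_diagonal (k := k) (C := C))
  have hM := PicTau27.isInvertible_point σ hσ
  let sl := Pic13.sliceAt k C q P hx
  have hsl : toFibre (k := k) (C := C) ≫ PicF.XTmap q x = sl := by
    apply pullback.hom_ext
    · refine (Category.assoc _ _ _).trans ((congrArg (_ ≫ ·) (pullback.lift_fst _ _ _)).trans ?_)
      rw [Category.comp_id]
      exact (pullback.lift_fst _ _ _).trans (pullback.lift_fst _ _ _).symm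
    · refine (Category.assoc _ _ _).trans ((congrArg (_ ≫ ·) (pullback.lift_snd _ _ _)).trans ?_)
      refine (Category.assoc _ _ _).symm.trans ?_
      exact (congrArg (· ≫ x.left) (pullback.lift_snd _ _ _)).trans (pullback.lift_snd _ _ _).symm
  show PicM.pull _ (PicM.of (L := (Scheme.Modules.pullback (PicF.XTmap q x)).obj L) _) * _ = _
  rw [← PicM.pull_of (PicF.XTmap q x) hLi, PicM.pull_pull, hsl]
  have hdiag : PicM.pull sl (PicM.of hD) = secClass P hx := by
    rw [secClass, PicM.pull_of, PicM.of_eq_iff]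
    obtain ⟨e⟩ := Inters29.nonempty_pullback_idealMod_iso sl (pullback.diagonal q).ker
      PicTau27.isEffCartier_diagonal (by
        rw [PicTau27.comap_ker_diagonal P hx]
        exact PicTau27.isEffCartier_point P hx)
    exact ⟨e ≪≫ eqToIso (by rw [PicTau27.comap_ker_diagonal P hx])⟩
  rw [← hdiag, ← map_mul, PicM.of_mul hLi hD]
  have he : PicM.of (isInvertible_tensorMod hLi hD) = PicM.pull (pullback.fst q q) (PicM.of hM) := by
    rw [PicM.pull_of, PicM.of_eq_iff]
    exact hAJ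
  rw [he, PicM.pull_pull, show sl ≫ pullback.fst q q = 𝟙 C from pullback.lift_fst _ _ _, PicM.pull_id]
  rfl

/-- Equal products of values of the Abel map: linearly equivalent pairs of points. -/
theorem secClass_mul_eq {ψ : (ModFun.PicDeg q 0).Hom ⊤ J} (hdim : topologicalKrullDim C ≤ 1) (hJ : Jac.IsJacobian q ⊤ J ψ)
    (σ : Spec (CommRingCat.of k) ⟶ C) (hσ : σ ≫ q = 𝟙 _) (j : Over.mk q ⟶ J) (hj : Jac.IsAbelJacobiAt q σ ψ j)
    (x₁ x₂ x₃ x₄ : U ⟶ Over.mk q) (h : (x₁ ≫ j) * (x₂ ≫ j) = (x₃ ≫ j) * (x₄ ≫ j)) :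
    secClass (C := C) x₁.left (Over.w x₁) * secClass (C := C) x₂.left (Over.w x₂) =
      secClass (C := C) x₃.left (Over.w x₃) * secClass (C := C) x₄.left (Over.w x₄) := by
  obtain ⟨L₁, ok₁, e₁, c₁⟩ := exists_point_family ψ σ hσ j hj x₁
  obtain ⟨L₂, ok₂, e₂, c₂⟩ := exists_point_family ψ σ hσ j hj x₂
  obtain ⟨L₃, ok₃, e₃, c₃⟩ := exists_point_family ψ σ hσ j hj x₃
  obtain ⟨L₄, ok₄, e₄, c₄⟩ := exists_point_family ψ σ hσ j hj x₄
  have ok12 := ok_tensor hdim ok₁ ok₂
  have ok34 := ok_tensor hdim ok₃ ok₄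
  rw [add_zero] at ok12 ok34
  have E : ψ.app U (CohB1.tensorMod L₁ L₂) trivial ok12 = ψ.app U (CohB1.tensorMod L₃ L₄) trivial ok34 := by
    rw [hJ.mul U trivial L₁ L₂ _ ok₁ ok₂ ok12 ⟨Iso.refl _⟩, hJ.mul U trivial L₃ L₄ _ ok₃ ok₄ ok34 ⟨Iso.refl _⟩,
      e₁, e₂, e₃, e₄]
    exact h
  obtain ⟨M, hM, ⟨i⟩⟩ := (hJ.coarse.2.2 k (𝟙 _) trivial).2 _ _ ok12 ok34 E
  have h1i := isInvertible_of_ok ok₁
  have h2i := isInvertible_of_ok ok₂
  have h3i := isInvertible_of_ok ok₃
  have h4i := isInvertible_of_ok ok₄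
  have hcl : PicM.of h1i * PicM.of h2i = PicM.of h3i * PicM.of h4i := by
    have hMp := PicLoc.isInvertible_pullback (PicF.XTproj q U) hM
    have h' : PicM.of (isInvertible_tensorMod h3i h4i) =
        PicM.of (isInvertible_tensorMod (isInvertible_tensorMod h1i h2i) hMp) := (PicM.of_eq_iff _ _).2 ⟨i⟩
    rw [← PicM.of_mul h3i h4i, ← PicM.of_mul (isInvertible_tensorMod h1i h2i) hMp, ← PicM.of_mul h1i h2i,
      ← PicM.pull_of (PicF.XTproj q U) hM, PicM.eq_one_of_field k (PicM.of hM), map_one, mul_one] at h'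
    exact h'.symm
  have hp := congrArg (PicM.pull (toFibre (k := k) (C := C))) hcl
  rw [map_mul, map_mul] at hp
  have hu : ∀ a : PicM C, IsUnit a := fun a => IsUnit.of_mul_eq_one _ (PicM.exists_mul_eq_one a).choose_spec
  refine (hu (PicM.pull (toFibre (k := k) (C := C)) (PicM.of h1i) *
    PicM.pull (toFibre (k := k) (C := C)) (PicM.of h2i))).mul_left_cancel ?_
  calc _ = secClass σ hσ * secClass σ hσ := by rw [mul_mul_mul_comm, c₁, c₂]
    _ = _ := by rw [hp, mul_mul_mul_comm, c₃, c₄]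

end Groth.Agent.JacAJ27
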