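import Groth.Agent.JacAJ27.Kappa
import Groth.Agent.CubeLib.FibreRankLoci
import Groth.Agent.Clifford24.StableFamily
import Groth.Agent.RelVAFib14.Main
import Groth.Agent.CurveRR24.RatPoint

/-!
# Open conditions on sums of points of a curve
-/

set_option autoImplicit false
set_option linter.style.haveILetI false
set_option backward.isDefEq.respectTransparency.types false
set_option maxHeartbeats 1000000

universe u

open CategoryTheory CategoryTheory.Limits AlgebraicGeometry Opposite TopologicalSpace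
open Groth.Agent.Coherent Groth.Agent.PicLib Groth.Agent.AmpleLib Groth.Agent.EulerLib Groth.Agent.CurveRR24

namespace Groth.Agent.JacAJ27

theorem exists_of_tensorList {X : Scheme.{u}} : ∀ (n : ℕ) (M : Fin n → X.Modules) (hM : ∀ i, PicF.IsInvertible (M i)),
    ∃ h : PicF.IsInvertible (FGA.tensorList (List.ofFn M)), PicM.of h = ∏ i, PicM.of (hM i) := by
  intro n
  induction n with
  | zero =>
    intro M hM
    rw [List.ofFn_zero, Finset.univ_eq_empty, Finset.prod_empty]
    exact ⟨isInvertible_structureModule, PicM.of_structureModule _⟩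
  | succ n ih =>
    intro M hM
    obtain ⟨h, e⟩ := ih (fun i => M i.succ) (fun i => hM i.succ)
    rw [List.ofFn_succ]
    refine ⟨isInvertible_tensorMod (hM 0) h, ?_⟩
    rw [Fin.prod_univ_succ, ← e]
    exact (PicM.of_mul (hM 0) h).symm

variable {k : Type u} [Field k] {C : Scheme.{u}} [C.Over (Spec (CommRingCat.of k))]
  [IsProper (C ↘ Spec (CommRingCat.of k))] [Smooth (C ↘ Spec (CommRingCat.of k))]

section Open

variable {T : Scheme.{u}} (q : T ⟶ Spec (CommRingCat.of k)) [LocallyOfFiniteType q]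

/-- The fibre condition `h⁰ < n` is open in a family. -/
theorem exists_open_h0_lt (A : PicM (Pic13.prodK k C q)) (n : ℕ) :
    ∃ U : T.Opens, ∀ (t : Spec (CommRingCat.of k) ⟶ T) (ht : t ≫ q = 𝟙 _),
      (∀ p, t p ∈ U) ↔ h0Cls k (PicM.pull (Pic13.sliceAt k C q t ht) A) < n := by
  obtain ⟨H, hH, rfl⟩ := PicM.exists_eq_of A
  haveI : IsLocallyNoetherian T := LocallyOfFiniteType.isLocallyNoetherian q
  let f : Pic13.prodK k C q ⟶ T := pullback.snd (C ↘ Spec (CommRingCat.of k)) q
  haveI : IsProper f := MorphismProperty.pullback_snd (P := @IsProper) _ _ inferInstance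
  haveI : Flat f := MorphismProperty.pullback_snd (P := @Flat) _ _ inferInstance
  haveI : IsLocallyNoetherian (Pic13.prodK k C q) := LocallyOfFiniteType.isLocallyNoetherian f
  haveI := hasInjectiveResolutions_modules (Pic13.prodK k C q)
  haveI : Coh.IsQCoh H := (PicLib.isCoh_of_isInvertible hH).1
  refine ⟨⟨_, CubeLib.isOpen_fiberRank_lt f H (PicLib.isCoh_of_isInvertible hH)
    (CohBC.isFlatOver_of_isFinLocFree f (RelVAFib14.isFinLocFree_of_isInvertible hH)) 0 n⟩, fun t ht => ?_⟩
  have key : ∀ p, CohIII.fiberRank f H 0 (t p) = h0Cls k (PicM.pull (Pic13.sliceAt k C q t ht) (PicM.of hH)) := by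
    intro p
    rw [PicM.pull_of, h0Cls_of]
    exact Clifford24.fiberRank_point k C q H t ht p
  exact ⟨fun h => by rw [← key (IsLocalRing.closedPoint k)]; exact h _, fun h p => by
    show CohIII.fiberRank f H 0 (t p) < n
    rwa [key p]⟩

end Open

variable [IsIntegral C] [GeometricallyIntegral (C ↘ Spec (CommRingCat.of k))] [IsAlgClosed k]
  [SmoothOfRelativeDimension 1 (C ↘ Spec (CommRingCat.of k))]


theorem secClass_eq_pt (hdim : topologicalKrullDim C = 1) (P : Spec (CommRingCat.of k) ⟶ C)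
    (hP : P ≫ (C ↘ Spec (CommRingCat.of k)) = 𝟙 _) :
    secClass (C := C) P hP = ptClass (k := k) hdim (isClosed_section_point (X := C) P hP (IsLocalRing.closedPoint k)) := by
  rw [secClass, ptClass, PicM.of_eq_iff]
  exact ⟨eqToIso (by rw [ker_section (X := C) P hP (IsLocalRing.closedPoint k)])⟩

theorem degCls_secClass (hdim : topologicalKrullDim C = 1) (P : Spec (CommRingCat.of k) ⟶ C)
    (hP : P ≫ (C ↘ Spec (CommRingCat.of k)) = 𝟙 _) : degCls k (secClass (C := C) P hP) = -1 := by
  rw [secClass_eq_pt hdim P hP, degCls_ptClass]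

theorem degCls_prod_secClass (hdim : topologicalKrullDim C = 1) {n : ℕ} (P : Fin n → (Spec (CommRingCat.of k) ⟶ C))
    (hP : ∀ i, P i ≫ (C ↘ Spec (CommRingCat.of k)) = 𝟙 _) :
    degCls k (∏ i, secClass (C := C) (P i) (hP i)) = -(n : ℤ) := by
  rw [Finset.prod_congr rfl fun i _ => secClass_eq_pt hdim (P i) (hP i)]
  exact degCls_prod_ptClass hdim _ _

/-- `h⁰ ≥ deg + 1 - g`. -/
theorem h0Cls_ge (hdim : topologicalKrullDim C = 1) (A : PicM C) :
    degCls k A + 1 - (Curv2.genus k C : ℤ) ≤ h0Cls k A := by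
  obtain ⟨A', hA'⟩ := PicM.exists_mul_eq_one A
  have := riemann_roch_cls (k := k) hdim hA'
  omega

theorem h0Cls_pos_of_prod (hdim : topologicalKrullDim C = 1) {n : ℕ} (P : Fin n → (Spec (CommRingCat.of k) ⟶ C))
    (hP : ∀ i, P i ≫ (C ↘ Spec (CommRingCat.of k)) = 𝟙 _) {A : PicM C}
    (hA : A * ∏ i, secClass (C := C) (P i) (hP i) = 1) : 0 < h0Cls k A := by
  rw [Finset.prod_congr rfl fun i _ => secClass_eq_pt hdim (P i) (hP i)] at hA
  exact h0Cls_pos_of_effective hdim n A _ _ hA

/-- There are `r ≤ g` points spanning `r - 1` dimensions: their sum moves in no pencil. -/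
theorem exists_points (hdim : topologicalKrullDim C = 1) : ∀ r : ℕ, r ≤ Curv2.genus k C →
    ∃ (P : Fin r → (Spec (CommRingCat.of k) ⟶ C)) (hP : ∀ i, P i ≫ (C ↘ Spec (CommRingCat.of k)) = 𝟙 _),
      ∀ A : PicM C, A * ∏ i, secClass (C := C) (P i) (hP i) = 1 → h0Cls k A ≤ 1 := by
  haveI := EulerLib.isNoetherian_of_proper k (X := C)
  intro r
  induction r with
  | zero =>
    intro _
    refine ⟨Fin.elim0, fun i => i.elim0, fun A hA => ?_⟩
    simp only [Finset.univ_eq_empty, Finset.prod_empty, mul_one] at hA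
    rw [hA, ← PicM.of_structureModule isInvertible_structureModule, h0Cls_of, h0_structure k (X := C)]
  | succ r ih =>
    intro hr
    obtain ⟨P, hP, hle⟩ := ih (by omega)
    obtain ⟨A, hA⟩ := PicM.exists_mul_eq_one (∏ i, secClass (C := C) (P i) (hP i))
    rw [mul_comm] at hA
    have h1 := hle A hA
    have h2 := h0Cls_pos_of_prod hdim P hP hA
    have hd : degCls k A = r := by
      have h := congrArg (degCls k) hA
      rw [degCls_mul hdim.le, degCls_one, degCls_prod_secClass hdim P hP] at h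
      omega
    have hrr := riemann_roch_cls (k := k) hdim hA
    obtain ⟨N, hN, hNeq⟩ := PicM.exists_eq_of (omegaCls k hdim * ∏ i, secClass (C := C) (P i) (hP i))
    rw [hd, hNeq, h0Cls_of] at hrr
    obtain ⟨s, hs⟩ := exists_ne_zero_of_nontrivial k
      (Module.nontrivial_of_finrank_pos (R := k) (M := Coh.HH C N 0) (by omega))
    haveI : JacobsonSpace ↥C := LocallyOfFiniteType.jacobsonSpace (C ↘ Spec (CommRingCat.of k))
    obtain ⟨Q, hQs, hQ⟩ := nonempty_inter_closedPoints (X := C) (Z := ((glocus N s : C.Opens) : Set C))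
      ⟨genericPoint C, genericPoint_mem_glocus hN hs⟩ (glocus N s).2.isLocallyClosed
    let R : Spec (CommRingCat.of k) ⟶ C := pointOfClosedPoint (C ↘ Spec (CommRingCat.of k)) Q hQ
    have hR : R ≫ (C ↘ Spec (CommRingCat.of k)) = 𝟙 _ := pointOfClosedPoint_comp _ _ _
    have hRQ : R (IsLocalRing.closedPoint k) = Q := pointOfClosedPoint_apply _ _ _ _
    refine ⟨Fin.cons R P, Fin.cases hR hP, fun A' hA' => ?_⟩
    have hd' : degCls k A' = r + 1 := by
      have h := congrArg (degCls k) hA'
      rw [degCls_mul hdim.le, degCls_one, degCls_prod_secClass hdim] at h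
      push_cast at h
      omega
    have hrr' := riemann_roch_cls (k := k) hdim hA'
    rw [Fin.prod_univ_succ] at hrr'
    simp only [Fin.cons_succ, Fin.cons_zero] at hrr'
    have hQ' := isClosed_section_point (X := C) R hR (IsLocalRing.closedPoint k)
    have hI := isInvertible_pt (k := k) hdim hQ'
    rw [mul_left_comm, hNeq, hd', secClass_eq_pt hdim R hR, ptClass, mul_comm,
      PicM.of_mul hN hI, h0Cls_of] at hrr'
    have hne := h0_ne_of_mem_glocus k hQ' hN (s := s) (by rw [hRQ]; exact hQs)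
    have hle' := (h0_tensor_ptIdeal k hQ' hN).1
    omega

section Families

/-- The class of the graph of a map to the curve. -/
noncomputable def graphClass {T : Scheme.{u}} (q : T ⟶ Spec (CommRingCat.of k)) (f : T ⟶ C)
    (hf : f ≫ (C ↘ Spec (CommRingCat.of k)) = q) : PicM (Pic13.prodK k C q) :=
  PicM.pull
    (pullback.lift (pullback.fst _ _) (pullback.snd _ _ ≫ f) (by rw [Category.assoc, hf]; exact pullback.condition) :
      Pic13.prodK k C q ⟶ pullback (C ↘ Spec (CommRingCat.of k)) (C ↘ Spec (CommRingCat.of k)))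
    (PicM.of (FlatMor12.IdealModGen.isInvertible_idealMod _ (PicTau27.isEffCartier_diagonal (k := k) (C := C))))

theorem pull_graphClass {T : Scheme.{u}} (q : T ⟶ Spec (CommRingCat.of k)) (f : T ⟶ C)
    (hf : f ≫ (C ↘ Spec (CommRingCat.of k)) = q) (t : Spec (CommRingCat.of k) ⟶ T) (ht : t ≫ q = 𝟙 _)
    (htf : (t ≫ f) ≫ (C ↘ Spec (CommRingCat.of k)) = 𝟙 _) :
    PicM.pull (Pic13.sliceAt k C q t ht) (graphClass q f hf) = secClass (C := C) (t ≫ f) htf := by
  have e : Pic13.sliceAt k C q t ht ≫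
      (pullback.lift (pullback.fst _ _) (pullback.snd _ _ ≫ f) (by rw [Category.assoc, hf]; exact pullback.condition) :
        Pic13.prodK k C q ⟶ pullback (C ↘ Spec (CommRingCat.of k)) (C ↘ Spec (CommRingCat.of k))) =
      Pic13.sliceAt k C (C ↘ Spec (CommRingCat.of k)) (t ≫ f) htf := by
    apply pullback.hom_ext
    · refine (Category.assoc _ _ _).trans ((congrArg (_ ≫ ·) (pullback.lift_fst _ _ _)).trans ?_)
      exact (pullback.lift_fst _ _ _).trans (pullback.lift_fst _ _ _).symm
    · refine (Category.assoc _ _ _).trans ((congrArg (_ ≫ ·) (pullback.lift_snd _ _ _)).trans ?_)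
      refine (Category.assoc _ _ _).symm.trans ((congrArg (· ≫ f) (pullback.lift_snd _ _ _)).trans ?_)
      exact (Category.assoc _ _ _).trans (pullback.lift_snd _ _ _).symm
  rw [graphClass, PicM.pull_pull, e, secClass, PicM.pull_of, PicM.of_eq_iff]
  obtain ⟨i⟩ := Inters29.nonempty_pullback_idealMod_iso (Pic13.sliceAt k C _ (t ≫ f) htf)
    (pullback.diagonal (C ↘ Spec (CommRingCat.of k))).ker PicTau27.isEffCartier_diagonal (by
      rw [PicTau27.comap_ker_diagonal _ htf]
      exact PicTau27.isEffCartier_point _ htf)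
  exact ⟨i ≪≫ eqToIso (by rw [PicTau27.comap_ker_diagonal _ htf])⟩

variable (r : ℕ)

/-- Distinguished class of the `i`-th projection. -/
noncomputable def projClass (i : Fin r) :
    PicM (Pic13.prodK k C (WidePullback.base fun _ : Fin r => C ↘ Spec (CommRingCat.of k))) :=
  graphClass _ (WidePullback.π (fun _ : Fin r => C ↘ Spec (CommRingCat.of k)) i) (WidePullback.π_arrow _ i)

theorem π_over (x : Spec (CommRingCat.of k) ⟶ SymProd.fibPow (C ↘ Spec (CommRingCat.of k)) r)
    (hx : x ≫ WidePullback.base (fun (_ : Fin r) => (C ↘ Spec (CommRingCat.of k))) = 𝟙 _) (i : Fin r) :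
    (x ≫ WidePullback.π (fun _ : Fin r => C ↘ Spec (CommRingCat.of k)) i) ≫ (C ↘ Spec (CommRingCat.of k)) = 𝟙 _ :=
  (Category.assoc _ _ _).trans ((congrArg (x ≫ ·) (WidePullback.π_arrow _ i)).trans hx)

/-- The class pulled back from the curve. -/
theorem pull_slice_fst {T : Scheme.{u}} (q : T ⟶ Spec (CommRingCat.of k)) (t : Spec (CommRingCat.of k) ⟶ T)
    (ht : t ≫ q = 𝟙 _) (a : PicM C) :
    PicM.pull (Pic13.sliceAt k C q t ht)
      (PicM.pull (pullback.fst (C ↘ Spec (CommRingCat.of k)) q : Pic13.prodK k C q ⟶ C) a) = a := by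
  rw [PicM.pull_pull, show Pic13.sliceAt k C q t ht ≫ pullback.fst _ _ = 𝟙 C from pullback.lift_fst _ _ _,
    PicM.pull_id]

/-- The point of the power with given coordinates. -/
theorem exists_tuple (P : Fin r → (Spec (CommRingCat.of k) ⟶ C))
    (hP : ∀ i, P i ≫ (C ↘ Spec (CommRingCat.of k)) = 𝟙 _) :
    ∃ x : Spec (CommRingCat.of k) ⟶ SymProd.fibPow (C ↘ Spec (CommRingCat.of k)) r,
      x ≫ WidePullback.base (fun (_ : Fin r) => (C ↘ Spec (CommRingCat.of k))) = 𝟙 _ ∧
        ∀ i, x ≫ WidePullback.π (fun _ : Fin r => C ↘ Spec (CommRingCat.of k)) i = P i :=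
  ⟨WidePullback.lift (𝟙 _) P hP, WidePullback.lift_base _ _ _ _, fun i => WidePullback.lift_π _ _ _ _ i⟩

theorem secClass_congr {P Q : Spec (CommRingCat.of k) ⟶ C} (h : P = Q)
    (hP : P ≫ (C ↘ Spec (CommRingCat.of k)) = 𝟙 _) (hQ : Q ≫ (C ↘ Spec (CommRingCat.of k)) = 𝟙 _) :
    secClass (C := C) P hP = secClass Q hQ := by
  subst h
  rfl

end Families

end Groth.Agent.JacAJ27
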