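import Groth.Agent.JacAJ27.SymImage
import Groth.Agent.JacAJ27.OpenFamily

/-!
# The Abel map of the symmetric power is surjective in degrees at least the genus
-/

set_option autoImplicit false
set_option linter.style.haveILetI false
set_option linter.unusedSectionVars false
set_option backward.isDefEq.respectTransparency.types false
set_option maxHeartbeats 1000000

universe u

open CategoryTheory CategoryTheory.Limits AlgebraicGeometry MonoidalCategory CartesianMonoidalCategory
open Groth.Agent.PicLib Groth.Agent.AmpleLib Groth.Agent.CurveRR24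

namespace Groth.Agent.JacAJ27

variable {k : Type u} [Field k] {C : Scheme.{u}} [C.Over (Spec (CommRingCat.of k))]
  [IsProper (C ↘ Spec (CommRingCat.of k))] [Smooth (C ↘ Spec (CommRingCat.of k))] [IsIntegral C]
  [GeometricallyIntegral (C ↘ Spec (CommRingCat.of k))]

local notation "qC" => C ↘ Spec (CommRingCat.of k)

/-- The graph section of a point with values in the curve. -/
noncomputable def secT {T : Over (Spec (CommRingCat.of k))} (x : T ⟶ Over.mk qC) : T.left ⟶ PicF.XT qC T :=
  pullback.lift x.left (𝟙 _) ((Over.w x).trans (Category.id_comp _).symm)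

/-- The graph is the inverse image of the diagonal. -/
theorem isPullback_secT_diagonal {T : Over (Spec (CommRingCat.of k))} (x : T ⟶ Over.mk qC) :
    IsPullback (secT x) x.left (PicF.XTmap qC x) (pullback.diagonal qC) := by
  let x' : T.left ⟶ C := x.left
  let q := qC
  have e1 : PicF.XTmap q x ≫ pullback.fst q q = pullback.fst q _ :=
    (pullback.lift_fst _ _ _).trans (Category.comp_id _)
  have e2 : PicF.XTmap q x ≫ pullback.snd q q = pullback.snd q _ ≫ x' := pullback.lift_snd _ _ _
  have w : secT x ≫ PicF.XTmap q x = x' ≫ pullback.diagonal q := by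
    apply pullback.hom_ext
    · refine (Category.assoc _ _ _).trans ((congrArg (secT x ≫ ·) e1).trans ?_)
      refine (pullback.lift_fst _ _ _).trans ?_
      exact ((Category.assoc _ _ _).trans ((congrArg (x' ≫ ·) (pullback.diagonal_fst q)).trans
        (Category.comp_id _))).symm
    · refine (Category.assoc _ _ _).trans ((congrArg (secT x ≫ ·) e2).trans ?_)
      refine (Category.assoc _ _ _).symm.trans ((congrArg (· ≫ x') (pullback.lift_snd _ _ _)).trans ?_)
      exact (Category.id_comp _).trans ((Category.assoc _ _ _).trans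
        ((congrArg (x' ≫ ·) (pullback.diagonal_snd q)).trans (Category.comp_id _))).symm
  have hc : ∀ s : PullbackCone (PicF.XTmap q x) (pullback.diagonal q),
      s.fst ≫ pullback.fst q _ = s.snd ∧ (s.fst ≫ pullback.snd q _) ≫ x' = s.snd := fun s => by
    refine ⟨?_, ?_⟩
    · exact ((congrArg (s.fst ≫ ·) e1).symm.trans (Category.assoc _ _ _).symm).trans
        ((congrArg (· ≫ pullback.fst q q) s.condition).trans ((Category.assoc _ _ _).trans
          ((congrArg (s.snd ≫ ·) (pullback.diagonal_fst q)).trans (Category.comp_id _))))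
    · exact ((Category.assoc _ _ _).trans ((congrArg (s.fst ≫ ·) e2).symm.trans (Category.assoc _ _ _).symm)).trans
        ((congrArg (· ≫ pullback.snd q q) s.condition).trans ((Category.assoc _ _ _).trans
          ((congrArg (s.snd ≫ ·) (pullback.diagonal_snd q)).trans (Category.comp_id _))))
  refine IsPullback.of_isLimit' ⟨w⟩ (PullbackCone.IsLimit.mk _ (fun s => s.fst ≫ pullback.snd q _) (fun s => ?_)
    (fun s => (hc s).2) fun s m h1 _ => ?_)
  · apply pullback.hom_ext
    · exact (Category.assoc _ _ _).trans ((congrArg (_ ≫ ·) (pullback.lift_fst _ _ _)).trans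
        ((hc s).2.trans (hc s).1.symm))
    · exact (Category.assoc _ _ _).trans ((congrArg (_ ≫ ·) (pullback.lift_snd _ _ _)).trans (Category.comp_id _))
  · rw [← h1]
    exact ((Category.assoc _ _ _).trans ((congrArg (m ≫ ·) (pullback.lift_snd _ _ _)).trans (Category.comp_id _))).symm

variable [SmoothOfRelativeDimension 1 (C ↘ Spec (CommRingCat.of k))]

theorem isEffCartier_secT {T : Over (Spec (CommRingCat.of k))} (x : T ⟶ Over.mk qC) :
    BlowUp.IsEffCartierIdeal (secT x).ker := by
  haveI := smoothOfRelativeDimension_isStableUnderBaseChange.{u} 1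
  let p : PicF.XT qC T ⟶ T.left := pullback.snd qC T.hom
  haveI : SmoothOfRelativeDimension 1 p :=
    MorphismProperty.pullback_snd (P := @SmoothOfRelativeDimension 1) _ _ ‹_›
  haveI : IsSeparated p := MorphismProperty.pullback_snd (P := @IsSeparated) _ _ inferInstance
  have hsec : secT x ≫ p = 𝟙 _ := pullback.lift_snd _ _ _
  haveI : IsClosedImmersion (secT x ≫ p) := by rw [hsec]; infer_instance
  haveI : IsClosedImmersion (secT x) := IsClosedImmersion.of_comp (secT x) p
  refine DivCurve29.isEffCartier p _ ?_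
  have e : (secT x).ker.subschemeι ≫ p = inv (secT x).toImage := by
    apply (cancel_epi (secT x).toImage).1
    rw [← Category.assoc]
    simp [hsec]
  rw [e]
  exact ⟨inferInstance, inferInstance, inferInstance⟩

/-- The class of the ideal of the diagonal. -/
noncomputable def diagCls : PicM (pullback qC qC) :=
  PicM.of (FlatMor12.IdealModGen.isInvertible_idealMod _ (PicTau27.isEffCartier_diagonal (k := k) (C := C)))

theorem of_secT {T : Over (Spec (CommRingCat.of k))} (x : T ⟶ Over.mk qC) :
    PicM.of (FlatMor12.IdealModGen.isInvertible_idealMod _ (isEffCartier_secT x)) =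
      PicM.pull (PicF.XTmap qC x) (diagCls (k := k) (C := C)) := by
  have h := isPullback_secT_diagonal x
  have hk : (pullback.diagonal qC).ker.comap (PicF.XTmap qC x) = (secT x).ker := by
    refine (Scheme.IdealSheafData.ker_fst_of_isClosedImmersion _ _).symm.trans ?_
    conv_rhs => rw [← h.isoPullback_hom_fst]
    rw [Scheme.Hom.ker_comp_of_isIso]
  rw [diagCls, PicM.pull_of, PicM.of_eq_iff]
  obtain ⟨e⟩ := Inters29.nonempty_pullback_idealMod_iso (PicF.XTmap qC x) (pullback.diagonal qC).ker
    PicTau27.isEffCartier_diagonal (by rw [hk]; exact isEffCartier_secT x)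
  exact ⟨(e ≪≫ eqToIso (by rw [hk])).symm⟩

/-- The degree of the class of a geometric family. -/
theorem degCls_of_ok {Ω : Type u} [Field Ω] [IsAlgClosed Ω] [Algebra k Ω] {d : ℤ}
    {L : (PicF.XT qC (tPt Ω)).Modules} (hL : (ModFun.PicDeg qC d).ok (tPt Ω) L) :
    degCls Ω (show PicM (XPt (k := k) C Ω) from PicM.of (isInvertible_of_ok hL)) = d := by
  rw [degCls_of]
  have e : PicF.XTmap qC (𝟙 (tPt (k := k) Ω)) = 𝟙 _ := by
    simp [PicF.XTmap, pullback.map_id]
    rfl
  refine (CurveRR24.deg_congr Ω ?_ 1).trans (fibDeg_apply hL.2 Ω _ (𝟙 (tPt (k := k) Ω)))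
  exact ((Scheme.Modules.pullbackId _).app L).symm ≪≫ (Scheme.Modules.pullbackCongr e.symm).app L

/-- Geometric families with the same class have the same image. -/
theorem app_eq_of_picM {Ω : Type u} [Field Ω] [Algebra k Ω] {d : ℤ} {N : Over (Spec (CommRingCat.of k))}
    (ψ : (ModFun.PicDeg qC d).Hom ⊤ N) {L M : (PicF.XT qC (tPt Ω)).Modules}
    (hL : (ModFun.PicDeg qC d).ok (tPt Ω) L) (hM : (ModFun.PicDeg qC d).ok (tPt Ω) M)
    (h : PicM.of (isInvertible_of_ok hL) = PicM.of (isInvertible_of_ok hM)) :
    ψ.app (tPt Ω) L trivial hL = ψ.app (tPt Ω) M trivial hM := by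
  refine ψ.resp L M trivial hL hM ⟨Coh.structureModule _, isInvertible_structureModule, ?_⟩
  have hO := PicLoc.isInvertible_pullback (PicF.XTproj qC (tPt Ω))
    (isInvertible_structureModule (X := (tPt (k := k) Ω).left))
  rw [← PicM.of_eq_iff (isInvertible_of_ok hM) (isInvertible_tensorMod (isInvertible_of_ok hL) hO),
    ← PicM.of_mul (isInvertible_of_ok hL) hO,
    ← PicM.pull_of _ (isInvertible_structureModule (X := (tPt (k := k) Ω).left)),
    PicM.of_structureModule isInvertible_structureModule, map_one, _root_.mul_one]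
  exact h.symm

/-- Every geometric point of the degree `n ≥ g` moduli scheme is the class of `n` points. -/
theorem surjective_abelMap (hdim : topologicalKrullDim C = 1) (g : ℕ) (hg : Curv2.genus k C = g)
    (n : ℕ) (hgn : g ≤ n)
    (Y : Scheme.{u}) (q : SymProd.fibPow qC n ⟶ Y) (gY : Y ⟶ Spec (CommRingCat.of k))
    (hq : SymProd.IsSymProd qC n q gY)
    (Jn : Over (Spec (CommRingCat.of k))) (ψn : (ModFun.PicDeg qC (n : ℤ)).Hom ⊤ Jn)
    (hJn : ModFun.IsCoarseModuli ⊤ (ModFun.PicDeg qC (n : ℤ)) Jn ψn)
    (F : (PicF.XT qC (Over.mk (WidePullback.base fun (_ : Fin n) => qC))).Modules)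
    (hF : Nonempty (CohB1.tensorMod F (FGA.tensorList (List.ofFn fun i : Fin n =>
        ClSub.idealMod (secT (Over.homMk (WidePullback.π (fun (_ : Fin n) => qC) i) (WidePullback.π_arrow _ i) :
          Over.mk (WidePullback.base fun (_ : Fin n) => qC) ⟶ Over.mk qC)).ker)) ≅ Coh.structureModule _))
    (hT : (⊤ : ObjectProperty (Over (Spec (CommRingCat.of k)))) (Over.mk (WidePullback.base fun (_ : Fin n) => qC)))
    (hFok : (ModFun.PicDeg qC (n : ℤ)).ok (Over.mk (WidePullback.base fun (_ : Fin n) => qC)) F)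
    (jn : Over.mk gY ⟶ Jn)
    (hjn : Over.homMk q hq.over ≫ jn = ψn.app (Over.mk (WidePullback.base fun (_ : Fin n) => qC)) F hT hFok) :
    Function.Surjective jn.left.base := by
  intro z
  obtain ⟨Ω, _, _, _, a, ha⟩ := exists_geomPt z
  obtain ⟨L, hL, rfl⟩ := (hJn.2.2 Ω _ trivial).1 a
  have hd1 := dim_XPt (k := k) (Ω := Ω) hdim
  haveI := GenSmoothLib.smoothOfRelativeDimension_toField (XPt (k := k) C Ω ↘ Spec (CommRingCat.of Ω)) (d := 1)
    (by rw [hd1]; rfl)
  let A : PicM (XPt (k := k) C Ω) := PicM.of (isInvertible_of_ok hL)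
  have hdeg : degCls Ω A = (n : ℤ) :=
    degCls_of_ok hL
  have hge := h0Cls_ge (k := Ω) (C := XPt (k := k) C Ω) hd1 A
  rw [genus_XPt, hdeg, hg] at hge
  obtain ⟨P, hP, e⟩ := exists_effective hd1 n A hdeg (by omega)
  choose x hx using fun i => exists_geomPnt_eq (hP i)
  let T₀ := Over.mk (WidePullback.base fun (_ : Fin n) => qC)
  let pr : ∀ i : Fin n, T₀ ⟶ Over.mk qC := fun i =>
    Over.homMk (WidePullback.π (fun (_ : Fin n) => qC) i) (WidePullback.π_arrow _ i)
  let y : tPt Ω ⟶ T₀ := Over.homMk (WidePullback.lift (tPt (k := k) Ω).hom (fun i => (x i).left) fun i => Over.w (x i))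
    (WidePullback.lift_base _ _ _ _)
  have hy : ∀ i, y ≫ pr i = x i := fun i => Over.OverMorphism.ext (WidePullback.lift_π _ _ _ _ i)
  have hFi : PicF.IsInvertible F := isInvertible_of_ok hFok
  obtain ⟨h, he⟩ := exists_of_tensorList n (fun i => ClSub.idealMod (secT (pr i)).ker)
    fun i => FlatMor12.IdealModGen.isInvertible_idealMod _ (isEffCartier_secT (pr i))
  have hcl : PicM.of hFi * ∏ i, PicM.pull (PicF.XTmap qC (pr i)) (diagCls (k := k) (C := C)) = 1 := by
    rw [← Finset.prod_congr rfl fun i _ => of_secT (pr i), ← he, PicM.of_mul hFi h, PicM.of_eq_one_iff]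
    exact hF
  have hpl : (show PicM (XPt (k := k) C Ω) from PicM.pull (PicF.XTmap qC y) (PicM.of hFi)) *
      ∏ i, ptClass (k := Ω) hd1 (hP i) = 1 := by
    have h2 := congrArg (PicM.pull (PicF.XTmap qC y)) hcl
    rw [map_mul, map_one, map_prod] at h2
    refine Eq.trans (congrArg _ (Finset.prod_congr rfl fun i _ => ?_)) h2
    rw [PicM.pull_pull, ← XTmap_comp, hy]
    have key : ∀ {U V : XPt (k := k) C Ω} (hU : IsClosed ({U} : Set (XPt (k := k) C Ω)))
        (hV : IsClosed ({V} : Set (XPt (k := k) C Ω))), U = V →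
        ptClass (k := Ω) hd1 hU = ptClass (k := Ω) hd1 hV := by
      intro U V hU hV h
      subst h
      rfl
    exact (key (hP i) (isClosed_secPt (x i)) (hx i).symm).trans (pull_diagonal hdim (x i) _).symm
  have hAF : A = (show PicM (XPt (k := k) C Ω) from PicM.pull (PicF.XTmap qC y) (PicM.of hFi)) :=
    (IsUnit.of_mul_eq_one_right _ e).mul_right_cancel (e.trans hpl.symm)
  have hpok := ok_pull y hFok
  have hcls : ψn.app (tPt Ω) _ trivial hpok = ψn.app (tPt Ω) L trivial hL := by
    exact app_eq_of_picM ψn hpok hL ((PicM.pull_of _ hFi).symm.trans hAF.symm)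
  have hn := ψn.natural y F hT trivial hFok hpok
  let p₀ : Spec (CommRingCat.of Ω) := IsLocalRing.closedPoint Ω
  refine ⟨q (y.left p₀), ?_⟩
  rw [← ha p₀, ← hcls, hn, ← hjn]
  rfl

end Groth.Agent.JacAJ27
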