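import Groth.Agent.Clifford24.Canonical
import Groth.Agent.Clifford24.DegOnePoint
import Groth.Agent.Clifford24.NotHyp
import Groth.Agent.PicLib.PicGroup

/-!
# Sums of two points on a curve of genus at least two
-/

set_option autoImplicit false
set_option linter.style.haveILetI false
set_option backward.isDefEq.respectTransparency.types false
set_option maxHeartbeats 1000000

universe u

open CategoryTheory CategoryTheory.Limits AlgebraicGeometry Opposite TopologicalSpace
open Groth.Agent.Coherent Groth.Agent.PicLib Groth.Agent.AmpleLib Groth.Agent.EulerLib Groth.Agent.CurveRR24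

namespace Groth.Agent.JacAJ27

theorem mem_glocus_oneSec {C : Scheme.{u}} (w : C) :
    w ∈ glocus (Coh.structureModule C) (oneSec ⊤ : Γ(Coh.structureModule C, ⊤)) := by
  have h : (⊤ : C.Opens) ≤ glocus (Coh.structureModule C) (oneSec ⊤ : Γ(Coh.structureModule C, ⊤)) := by
    refine (le_glocus_iff _ ⊤).2 ?_
    rw [resM_self]
    exact isGen_oneSec ⊤
  exact h trivial

variable {k : Type u} [Field k] {C : Scheme.{u}} [C.Over (Spec (CommRingCat.of k))]
  [IsProper (C ↘ Spec (CommRingCat.of k))] [IsIntegral C] [Smooth (C ↘ Spec (CommRingCat.of k))]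
  [GeometricallyIntegral (C ↘ Spec (CommRingCat.of k))]

variable (hdim : topologicalKrullDim C = 1)

include k hdim in
theorem isInvertible_pt {P : C} (hP : IsClosed ({P} : Set C)) :
    PicF.IsInvertible (ClSub.idealMod (ptIdeal P hP)) :=
  isInvertible_ptIdeal_of_normal k hdim hP (Clifford24.isIntegrallyClosed_stalk_of_smooth k P)

/-- The class of the ideal of a closed point. -/
noncomputable def ptClass {P : C} (hP : IsClosed ({P} : Set C)) : PicM C :=
  PicM.of (isInvertible_pt (k := k) hdim hP)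

variable [IsAlgClosed k]

theorem deg_eq_two {P Q : C} (hP : IsClosed ({P} : Set C)) (hQ : IsClosed ({Q} : Set C)) {L : C.Modules}
    (hL : PicF.IsInvertible L) (e : PicM.of hL * (ptClass (k := k) hdim hP * ptClass (k := k) hdim hQ) = 1) :
    Curv2.deg k C L 1 = 2 := by
  haveI := EulerLib.isNoetherian_of_proper k (X := C)
  have hI := isInvertible_pt (k := k) hdim hP
  have hJ := isInvertible_pt (k := k) hdim hQ
  rw [← mul_assoc, ptClass, ptClass, PicM.of_mul hL hI, PicM.of_mul (isInvertible_tensorMod hL hI) hJ,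
    PicM.of_eq_one_iff] at e
  have h := deg_congr k e.some 1
  rw [deg_structure, deg_tensor_ptIdeal k hQ (isInvertible_tensorMod hL hI), deg_tensor_ptIdeal k hP hL,
    finrank_resField k hP, finrank_resField k hQ] at h
  push_cast at h
  omega

/-- `O(P + Q)` has two sections if it is also `O(R + T)` with `R` off `{P, Q}`. -/
theorem two_le_h0 {P Q R T : C} (hP : IsClosed ({P} : Set C)) (hQ : IsClosed ({Q} : Set C))
    (hR : IsClosed ({R} : Set C)) (hT : IsClosed ({T} : Set C)) (h₁ : R ≠ P) (h₂ : R ≠ Q) {L : C.Modules}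
    (hL : PicF.IsInvertible L) (e₁ : PicM.of hL * (ptClass (k := k) hdim hP * ptClass (k := k) hdim hQ) = 1)
    (e₂ : PicM.of hL * (ptClass (k := k) hdim hR * ptClass (k := k) hdim hT) = 1) :
    2 ≤ Module.finrank k (Coh.HH C L 0) := by
  haveI := EulerLib.isNoetherian_of_proper k (X := C)
  have hIP := isInvertible_pt (k := k) hdim hP
  have hIQ := isInvertible_pt (k := k) hdim hQ
  have hIR := isInvertible_pt (k := k) hdim hR
  have hIT := isInvertible_pt (k := k) hdim hT
  let N := CohB1.tensorMod (ClSub.idealMod (ptIdeal P hP)) L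
  have hN : PicF.IsInvertible N := isInvertible_tensorMod hIP hL
  obtain ⟨e⟩ : Nonempty (CohB1.tensorMod (ClSub.idealMod (ptIdeal Q hQ)) N ≅ Coh.structureModule C) := by
    rw [← PicM.of_eq_one_iff (isInvertible_tensorMod hIQ hN), ← PicM.of_mul hIQ hN, ← PicM.of_mul hIP hL]
    refine Eq.trans ?_ e₁
    simp only [ptClass]
    ac_rfl
  let one : Γ(Coh.structureModule C, ⊤) := oneSec ⊤
  let z := e.inv.app ⊤ one
  have hz : R ∈ glocus (CohB1.tensorMod (ClSub.idealMod (ptIdeal Q hQ)) N) z := by
    rw [show z = e.symm.hom.app ⊤ one from rfl, glocus_map_iso]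
    exact mem_glocus_oneSec R
  have hz' := mem_glocus_twistMul hN z (fun h => h₂ ((support_ptIdeal hQ).le h)) hz
  have hne := h0_ne_of_mem_glocus k hR hL
    (mem_glocus_twistMul hL _ (fun h => h₁ ((support_ptIdeal hP).le h)) hz')
  let M := CohB1.tensorMod L (ClSub.idealMod (ptIdeal R hR))
  have hM : PicF.IsInvertible M := isInvertible_tensorMod hL hIR
  obtain ⟨e'⟩ : Nonempty (CohB1.tensorMod M (ClSub.idealMod (ptIdeal T hT)) ≅ Coh.structureModule C) := by
    rw [← PicM.of_eq_one_iff (isInvertible_tensorMod hM hIT), ← PicM.of_mul hM hIT, ← PicM.of_mul hL hIR]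
    exact (_root_.mul_assoc _ _ _).trans e₂
  have hge := (h0_tensor_ptIdeal k hT hM).1
  rw [finrank_HH_congr k e' 0] at hge
  have h0 := h0_structure k (X := C)
  have hle := (h0_tensor_ptIdeal k hR hL).1
  simp only [M] at hge
  omega

/-- Distinct points are not linearly equivalent. -/
theorem eq_of_ptClass_eq (hg : 1 ≤ Curv2.genus k C) {P Q : C} (hP : IsClosed ({P} : Set C))
    (hQ : IsClosed ({Q} : Set C)) (h : ptClass (k := k) hdim hP = ptClass (k := k) hdim hQ) : P = Q := by
  haveI := EulerLib.isNoetherian_of_proper k (X := C)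
  have hIP := isInvertible_pt (k := k) hdim hP
  obtain ⟨b, hb⟩ := PicM.exists_mul_eq_one (ptClass (k := k) hdim hP)
  obtain ⟨J, hJ, rfl⟩ := PicM.exists_eq_of b
  rw [ptClass, PicM.of_mul hIP hJ, PicM.of_eq_one_iff] at hb
  obtain ⟨φ⟩ := (PicM.of_eq_iff hIP (isInvertible_pt (k := k) hdim hQ)).1 h
  refine Clifford24.eq_of_ptIdeal_iso k hP hQ ⟨J, hJ, hb, ?_⟩ φ
  obtain ⟨e⟩ := hb
  let e' : CohB1.tensorMod J (ClSub.idealMod (ptIdeal P hP)) ≅ Coh.structureModule C := tensorComm _ _ ≪≫ e
  have hd := deg_congr k e' 1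
  rw [deg_structure, deg_tensor_ptIdeal k hP hJ, finrank_resField k hP] at hd
  push_cast at hd
  have h1 := h0_le_deg k hdim.le hg hJ (by omega)
  have hge := (h0_tensor_ptIdeal k hP hJ).1
  rw [finrank_HH_congr k e' 0] at hge
  have h0 := h0_structure k (X := C)
  omega

/-- Two pairs of points in a common class: they agree, or the class is the `g¹₂`. -/
theorem pair_cases {P Q R T : C} (hP : IsClosed ({P} : Set C)) (hQ : IsClosed ({Q} : Set C))
    (hR : IsClosed ({R} : Set C)) (hT : IsClosed ({T} : Set C))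
    (h : ptClass (k := k) hdim hP * ptClass (k := k) hdim hQ = ptClass (k := k) hdim hR * ptClass (k := k) hdim hT) :
    (R = P ∨ R = Q) ∨ ∃ (L : C.Modules) (hL : PicF.IsInvertible L), Curv2.deg k C L 1 = 2 ∧
      2 ≤ Module.finrank k (Coh.HH C L 0) ∧
      PicM.of hL * (ptClass (k := k) hdim hP * ptClass (k := k) hdim hQ) = 1 := by
  by_cases hc : R = P ∨ R = Q
  · exact Or.inl hc
  obtain ⟨b, hb⟩ := PicM.exists_mul_eq_one (ptClass (k := k) hdim hP * ptClass (k := k) hdim hQ)
  obtain ⟨L, hL, rfl⟩ := PicM.exists_eq_of b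
  rw [mul_comm] at hb
  push Not at hc
  exact Or.inr ⟨L, hL, deg_eq_two hdim hP hQ hL hb, two_le_h0 hdim hP hQ hR hT hc.1 hc.2 hL hb (h ▸ hb), hb⟩

end Groth.Agent.JacAJ27
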