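import Groth.Agent.JacAJ27.AbelPts
import Groth.Agent.JacAJ27.Effective
import Groth.Agent.AbVarLib.GeomIntegralSmooth
import Groth.Agent.AbVarLib.AlgClosedIntegral
import Groth.Agent.GenSmoothLib.OmegaFree
import Mathlib.AlgebraicGeometry.AlgClosed.Basic

/-!
# The Abel map on geometric points: classes on the base changed curve
-/

set_option autoImplicit false
set_option linter.style.haveILetI false
set_option backward.isDefEq.respectTransparency.types false
set_option maxHeartbeats 1000000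

universe u

open CategoryTheory CategoryTheory.Limits AlgebraicGeometry MonoidalCategory CartesianMonoidalCategory
open scoped MonObj
open Groth.Agent.PicLib Groth.Agent.AmpleLib Groth.Agent.CurveRR24

namespace Groth.Agent.JacAJ27

variable {k : Type u} [Field k] (C : Scheme.{u}) [C.Over (Spec (CommRingCat.of k))]
  (Ω : Type u) [Field Ω] [Algebra k Ω]

/-- The geometric point `Spec Ω` over `k`. -/
noncomputable abbrev tPt : Over (Spec (CommRingCat.of k)) :=
  Over.mk (Spec.map (CommRingCat.ofHom (algebraMap k Ω)))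

/-- The base changed curve. -/
noncomputable abbrev XPt : Scheme.{u} :=
  pullback (C ↘ Spec (CommRingCat.of k)) (Spec.map (CommRingCat.ofHom (algebraMap k Ω)))

variable {C Ω}

/-- The section attached to a point. -/
noncomputable def secPt (x : tPt Ω ⟶ Over.mk (C ↘ Spec (CommRingCat.of k))) :
    Spec (CommRingCat.of Ω) ⟶ XPt (k := k) C Ω :=
  pullback.lift x.left (𝟙 _) ((Over.w x).trans (Category.id_comp _).symm)

theorem secPt_over (x : tPt Ω ⟶ Over.mk (C ↘ Spec (CommRingCat.of k))) :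
    secPt x ≫ (XPt (k := k) C Ω ↘ Spec (CommRingCat.of Ω)) = 𝟙 _ :=
  pullback.lift_snd _ _ _

theorem isClosed_secPt [IsProper (C ↘ Spec (CommRingCat.of k))]
    (x : tPt Ω ⟶ Over.mk (C ↘ Spec (CommRingCat.of k))) :
    IsClosed ({secPt x (IsLocalRing.closedPoint Ω)} : Set (XPt (k := k) C Ω)) :=
  haveI : IsProper (XPt (k := k) C Ω ↘ Spec (CommRingCat.of Ω)) := MorphismProperty.pullback_snd _ _ inferInstance
  isClosed_section_point (X := XPt (k := k) C Ω) (secPt x) (secPt_over x) _

variable [IsProper (C ↘ Spec (CommRingCat.of k))]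

instance isProper_XPt : IsProper (XPt (k := k) C Ω ↘ Spec (CommRingCat.of Ω)) :=
  MorphismProperty.pullback_snd _ _ inferInstance

instance smooth_XPt [Smooth (C ↘ Spec (CommRingCat.of k))] :
    Smooth (XPt (k := k) C Ω ↘ Spec (CommRingCat.of Ω)) :=
  MorphismProperty.pullback_snd _ _ inferInstance

instance geometricallyIntegral_XPt [GeometricallyIntegral (C ↘ Spec (CommRingCat.of k))] :
    GeometricallyIntegral (XPt (k := k) C Ω ↘ Spec (CommRingCat.of Ω)) :=
  MorphismProperty.pullback_snd (P := @GeometricallyIntegral) _ _ inferInstance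

instance isIntegral_XPt [GeometricallyIntegral (C ↘ Spec (CommRingCat.of k))] : IsIntegral (XPt (k := k) C Ω) :=
  GeometricallyIntegral.geometrically_isIntegral (f := C ↘ Spec (CommRingCat.of k)) _ _ _
    (IsPullback.of_hasPullback _ _)

theorem dim_XPt (hdim : topologicalKrullDim C = 1) : topologicalKrullDim (XPt (k := k) C Ω) = 1 :=
  (DimLib.topologicalKrullDim_bc (C ↘ Spec (CommRingCat.of k)) Ω).trans hdim

theorem genus_XPt : Curv2.genus Ω (XPt (k := k) C Ω) = Curv2.genus k C := by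
  haveI := EulerLib.isNoetherian_of_proper k (X := C)
  exact genus_bc (g := pullback.fst (C ↘ Spec (CommRingCat.of k)) _) (IsPullback.of_hasPullback _ _)

omit [IsProper (C ↘ Spec (CommRingCat.of k))] in
/-- The point moved into the product meets the diagonal in itself. -/
theorem isPullback_secPt_diagonal (x : tPt Ω ⟶ Over.mk (C ↘ Spec (CommRingCat.of k))) :
    IsPullback (secPt x) x.left (PicF.XTmap (C ↘ Spec (CommRingCat.of k)) x)
      (pullback.diagonal (C ↘ Spec (CommRingCat.of k))) := by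
  let q := C ↘ Spec (CommRingCat.of k)
  let x' : Spec (CommRingCat.of Ω) ⟶ C := x.left
  have e1 : PicF.XTmap q x ≫ pullback.fst q q = pullback.fst q _ :=
    (pullback.lift_fst _ _ _).trans (Category.comp_id _)
  have e2 : PicF.XTmap q x ≫ pullback.snd q q = pullback.snd q _ ≫ x' := pullback.lift_snd _ _ _
  have w : secPt x ≫ PicF.XTmap q x = x' ≫ pullback.diagonal q := by
    apply pullback.hom_ext
    · refine (Category.assoc _ _ _).trans ((congrArg (secPt x ≫ ·) e1).trans ?_)
      refine (pullback.lift_fst _ _ _).trans ?_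
      exact ((Category.assoc _ _ _).trans ((congrArg (x' ≫ ·) (pullback.diagonal_fst q)).trans
        (Category.comp_id _))).symm
    · refine (Category.assoc _ _ _).trans ((congrArg (secPt x ≫ ·) e2).trans ?_)
      refine (Category.assoc _ _ _).symm.trans ((congrArg (· ≫ x') (pullback.lift_snd _ _ _)).trans ?_)
      exact (Category.id_comp _).trans ((Category.assoc _ _ _).trans
        ((congrArg (x' ≫ ·) (pullback.diagonal_snd q)).trans (Category.comp_id _))).symm
  have hc : ∀ s : PullbackCone (PicF.XTmap q x) (pullback.diagonal q),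
      s.fst ≫ pullback.fst q _ = s.snd ∧ (s.fst ≫ pullback.snd q _) ≫ x' = s.snd := fun s => by
    refine ⟨?_, ?_⟩
    · exact ((congrArg (s.fst ≫ ·) e1).symm.trans (Category.assoc _ _ _).symm).trans
        ((congrArg (· ≫ pullback.fst q q) s.condition).trans ((Category.assoc _ _ _).trans
          ((congrArg (s.snd ≫ ·) (pullback.diagonal_fst q)).trans (Category.comp_id _))))
    · exact ((Category.assoc _ _ _).trans ((congrArg (s.fst ≫ ·) e2).symm.trans (Category.assoc _ _ _).symm)).trans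
        ((congrArg (· ≫ pullback.snd q q) s.condition).trans ((Category.assoc _ _ _).trans
          ((congrArg (s.snd ≫ ·) (pullback.diagonal_snd q)).trans (Category.comp_id _))))
  refine IsPullback.of_isLimit' ⟨w⟩ (PullbackCone.IsLimit.mk _ (fun s => s.fst ≫ pullback.snd q _) (fun s => ?_)
    (fun s => (hc s).2) fun s m h1 _ => ?_)
  · apply pullback.hom_ext
    · exact (Category.assoc _ _ _).trans ((congrArg (_ ≫ ·) (pullback.lift_fst _ _ _)).trans
        ((hc s).2.trans (hc s).1.symm))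
    · exact (Category.assoc _ _ _).trans ((congrArg (_ ≫ ·) (pullback.lift_snd _ _ _)).trans (Category.comp_id _))
  · rw [← h1]
    exact ((Category.assoc _ _ _).trans ((congrArg (m ≫ ·) (pullback.lift_snd _ _ _)).trans (Category.comp_id _))).symm

variable [Smooth (C ↘ Spec (CommRingCat.of k))] [IsIntegral C] [GeometricallyIntegral (C ↘ Spec (CommRingCat.of k))]
  [IsAlgClosed Ω]

/-- The point under a section. -/
noncomputable abbrev geomPnt (x : tPt Ω ⟶ Over.mk (C ↘ Spec (CommRingCat.of k))) : XPt (k := k) C Ω :=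
  secPt x (IsLocalRing.closedPoint Ω)

theorem pull_diagonal (hdim : topologicalKrullDim C = 1) (x : tPt Ω ⟶ Over.mk (C ↘ Spec (CommRingCat.of k)))
    (hD : PicF.IsInvertible (ClSub.idealMod (pullback.diagonal (C ↘ Spec (CommRingCat.of k))).ker)) :
    PicM.pull (PicF.XTmap (C ↘ Spec (CommRingCat.of k)) x) (PicM.of hD) =
      ptClass (k := Ω) (dim_XPt hdim) (isClosed_secPt x) := by
  haveI := GenSmoothLib.smoothOfRelativeDimension_toField (C ↘ Spec (CommRingCat.of k)) (d := 1)
    (by rw [hdim]; rfl)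
  haveI := GenSmoothLib.smoothOfRelativeDimension_toField (XPt (k := k) C Ω ↘ Spec (CommRingCat.of Ω)) (d := 1)
    (by rw [dim_XPt hdim]; rfl)
  have hk : (pullback.diagonal (C ↘ Spec (CommRingCat.of k))).ker.comap
      (PicF.XTmap (C ↘ Spec (CommRingCat.of k)) x) = (secPt x).ker := by
    have h := isPullback_secPt_diagonal x
    refine (Scheme.IdealSheafData.ker_fst_of_isClosedImmersion _ _).symm.trans ?_
    conv_rhs => rw [← h.isoPullback_hom_fst]
    rw [Scheme.Hom.ker_comp_of_isIso]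
  have hpt : (secPt x).ker = ptIdeal (geomPnt x) (isClosed_secPt x) :=
    ker_section (X := XPt (k := k) C Ω) (secPt x) (secPt_over x) _
  rw [ptClass, PicM.pull_of, PicM.of_eq_iff]
  obtain ⟨e⟩ := Inters29.nonempty_pullback_idealMod_iso (PicF.XTmap (C ↘ Spec (CommRingCat.of k)) x)
    (pullback.diagonal (C ↘ Spec (CommRingCat.of k))).ker PicTau27.isEffCartier_diagonal
    (by rw [hk]; exact PicTau27.isEffCartier_point (C := XPt (k := k) C Ω) (secPt x) (secPt_over x))
  exact ⟨e ≪≫ eqToIso (by rw [hk, hpt])⟩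

variable {J : Over (Spec (CommRingCat.of k))} [GrpObj J]
  {ψ : (ModFun.PicDeg (C ↘ Spec (CommRingCat.of k)) 0).Hom ⊤ J}

theorem exists_cls (hJ : Jac.IsJacobian (C ↘ Spec (CommRingCat.of k)) ⊤ J ψ) (a : tPt Ω ⟶ J) :
    ∃ c : PicM (XPt (k := k) C Ω), ∀ (L : (PicF.XT (C ↘ Spec (CommRingCat.of k)) (tPt Ω)).Modules)
      (hL : (ModFun.PicDeg (C ↘ Spec (CommRingCat.of k)) 0).ok (tPt Ω) L),
      ψ.app (tPt Ω) L trivial hL = a → PicM.of (isInvertible_of_ok hL) = c := by
  obtain ⟨L₀, hL₀, e₀⟩ := (hJ.coarse.2.2 Ω _ trivial).1 a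
  refine ⟨PicM.of (isInvertible_of_ok hL₀), fun L hL e => ?_⟩
  obtain ⟨M, hM, ⟨i⟩⟩ := (hJ.coarse.2.2 Ω _ trivial).2 _ _ hL hL₀ (e.trans e₀.symm)
  have hMp := PicLoc.isInvertible_pullback (PicF.XTproj (C ↘ Spec (CommRingCat.of k)) (tPt Ω)) hM
  have h' : PicM.of (isInvertible_of_ok hL₀) = PicM.of (isInvertible_tensorMod (isInvertible_of_ok hL) hMp) :=
    (PicM.of_eq_iff _ _).2 ⟨i⟩
  rw [h', ← PicM.of_mul (isInvertible_of_ok hL) hMp, ← PicM.pull_of _ hM, PicM.eq_one_of_field Ω (PicM.of hM),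
    map_one, _root_.mul_one]

/-- The class on the base changed curve of a geometric point of the Jacobian. -/
noncomputable def cls (hJ : Jac.IsJacobian (C ↘ Spec (CommRingCat.of k)) ⊤ J ψ) (a : tPt Ω ⟶ J) :
    PicM (XPt (k := k) C Ω) := (exists_cls hJ a).choose

theorem cls_app (hJ : Jac.IsJacobian (C ↘ Spec (CommRingCat.of k)) ⊤ J ψ)
    {L : (PicF.XT (C ↘ Spec (CommRingCat.of k)) (tPt Ω)).Modules}
    (hL : (ModFun.PicDeg (C ↘ Spec (CommRingCat.of k)) 0).ok (tPt Ω) L) :
    cls hJ (ψ.app (tPt Ω) L trivial hL) = PicM.of (isInvertible_of_ok hL) :=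
  ((exists_cls hJ _).choose_spec L hL rfl).symm

variable (hJ : Jac.IsJacobian (C ↘ Spec (CommRingCat.of k)) ⊤ J ψ)

theorem cls_mul (hdim : topologicalKrullDim C ≤ 1) (a b : tPt Ω ⟶ J) : cls hJ (a * b) = cls hJ a * cls hJ b := by
  obtain ⟨L, hL, rfl⟩ := (hJ.coarse.2.2 Ω _ trivial).1 a
  obtain ⟨M, hM, rfl⟩ := (hJ.coarse.2.2 Ω _ trivial).1 b
  have hN := ok_tensor hdim hL hM
  rw [add_zero] at hN
  rw [← hJ.mul (tPt Ω) trivial L M _ hL hM hN ⟨Iso.refl _⟩, cls_app, cls_app, cls_app, PicM.of_mul]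

theorem isUnit_cls (a : PicM (XPt (k := k) C Ω)) : IsUnit a :=
  IsUnit.of_mul_eq_one _ (PicM.exists_mul_eq_one a).choose_spec

theorem cls_one (hdim : topologicalKrullDim C ≤ 1) : cls hJ (1 : tPt Ω ⟶ J) = 1 := by
  have h := cls_mul hJ hdim (1 : tPt Ω ⟶ J) 1
  rw [_root_.mul_one] at h
  exact ((isUnit_cls (cls hJ (1 : tPt Ω ⟶ J))).mul_left_cancel ((_root_.mul_one _).trans h)).symm

theorem cls_injective : Function.Injective (cls hJ (Ω := Ω)) := by
  intro a b h
  obtain ⟨L, hL, rfl⟩ := (hJ.coarse.2.2 Ω _ trivial).1 a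
  obtain ⟨M, hM, rfl⟩ := (hJ.coarse.2.2 Ω _ trivial).1 b
  rw [cls_app, cls_app] at h
  refine ψ.resp L M trivial hL hM ⟨Coh.structureModule _, isInvertible_structureModule, ?_⟩
  have hO := PicLoc.isInvertible_pullback (PicF.XTproj (C ↘ Spec (CommRingCat.of k)) (tPt Ω))
    (isInvertible_structureModule (X := (tPt (k := k) Ω).left))
  rw [← PicM.of_eq_iff (isInvertible_of_ok hM) (isInvertible_tensorMod (isInvertible_of_ok hL) hO),
    ← PicM.of_mul (isInvertible_of_ok hL) hO,
    ← PicM.pull_of _ (isInvertible_structureModule (X := (tPt (k := k) Ω).left)),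
    PicM.of_structureModule isInvertible_structureModule, map_one, _root_.mul_one]
  exact h.symm

theorem degCls_cls (a : tPt Ω ⟶ J) : degCls Ω (cls hJ a) = 0 := by
  obtain ⟨L, hL, rfl⟩ := (hJ.coarse.2.2 Ω _ trivial).1 a
  rw [cls_app, degCls_of]
  have e : PicF.XTmap (C ↘ Spec (CommRingCat.of k)) (𝟙 (tPt (k := k) Ω)) = 𝟙 _ := by
    simp [PicF.XTmap, pullback.map_id]
    rfl
  refine (CurveRR24.deg_congr Ω ?_ 1).trans (fibDeg_apply hL.2 Ω _ (𝟙 (tPt (k := k) Ω)))
  exact ((Scheme.Modules.pullbackId _).app L).symm ≪≫ (Scheme.Modules.pullbackCongr e.symm).app L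

/-- The twisting class of the Abel map, pulled back. -/
noncomputable def baseCls (σ : Spec (CommRingCat.of k) ⟶ C) (hσ : σ ≫ (C ↘ Spec (CommRingCat.of k)) = 𝟙 _)
    (hdim : topologicalKrullDim C = 1) : PicM (XPt (k := k) C Ω) :=
  haveI := GenSmoothLib.smoothOfRelativeDimension_toField (C ↘ Spec (CommRingCat.of k)) (d := 1)
    (by rw [hdim]; rfl)
  PicM.pull (pullback.fst (C ↘ Spec (CommRingCat.of k)) _) (PicM.of (PicTau27.isInvertible_point σ hσ))

/-- `cls (x ≫ j)` is `O(x) ⊗ I_σ`. -/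
theorem cls_comp (hdim : topologicalKrullDim C = 1) {σ : Spec (CommRingCat.of k) ⟶ C}
    (hσ : σ ≫ (C ↘ Spec (CommRingCat.of k)) = 𝟙 _) {j : Over.mk (C ↘ Spec (CommRingCat.of k)) ⟶ J}
    (hj : Jac.IsAbelJacobiAt (C ↘ Spec (CommRingCat.of k)) σ ψ j)
    (x : tPt Ω ⟶ Over.mk (C ↘ Spec (CommRingCat.of k))) :
    cls hJ (x ≫ j) * ptClass (k := Ω) (dim_XPt hdim) (isClosed_secPt x) = baseCls σ hσ hdim := by
  haveI := GenSmoothLib.smoothOfRelativeDimension_toField (C ↘ Spec (CommRingCat.of k)) (d := 1)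
    (by rw [hdim]; rfl)
  obtain ⟨hT, L, hok, ⟨hLi, hAJ⟩, rfl⟩ := hj
  rw [← ψ.natural x L hT trivial hok (ok_pull x hok), cls_app]
  have hD := FlatMor12.IdealModGen.isInvertible_idealMod _ (PicTau27.isEffCartier_diagonal (k := k) (C := C))
  have hM := PicTau27.isInvertible_point σ hσ
  show PicM.of (L := (Scheme.Modules.pullback (PicF.XTmap _ x)).obj L) _ * _ = _
  rw [← PicM.pull_of (PicF.XTmap (C ↘ Spec (CommRingCat.of k)) x) hLi, ← pull_diagonal hdim x hD, ← map_mul,
    PicM.of_mul hLi hD]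
  have he : PicM.of (isInvertible_tensorMod hLi hD) =
      PicM.pull (pullback.fst (C ↘ Spec (CommRingCat.of k)) (C ↘ Spec (CommRingCat.of k))) (PicM.of hM) := by
    rw [PicM.pull_of, PicM.of_eq_iff]
    exact hAJ
  rw [he, PicM.pull_pull]
  exact congrArg (fun m => PicM.pull m (PicM.of hM)) ((pullback.lift_fst _ _ _).trans (Category.comp_id _))

/-- Every closed point of the base changed curve is a geometric point of the curve. -/
theorem exists_geomPnt_eq {P : XPt (k := k) C Ω} (hP : IsClosed ({P} : Set (XPt (k := k) C Ω))) :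
    ∃ x : tPt Ω ⟶ Over.mk (C ↘ Spec (CommRingCat.of k)), geomPnt x = P := by
  let s := pointOfClosedPoint (XPt (k := k) C Ω ↘ Spec (CommRingCat.of Ω)) P hP
  have hs : s ≫ (XPt (k := k) C Ω ↘ Spec (CommRingCat.of Ω)) = 𝟙 _ := pointOfClosedPoint_comp _ _ _
  let x : tPt Ω ⟶ Over.mk (C ↘ Spec (CommRingCat.of k)) :=
    Over.homMk (s ≫ pullback.fst (C ↘ Spec (CommRingCat.of k)) _) (by
      refine (Category.assoc _ _ _).trans ((congrArg (s ≫ ·) pullback.condition).trans ?_)
      exact (Category.assoc _ _ _).symm.trans ((congrArg (· ≫ _) hs).trans (Category.id_comp _)))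
  have e : secPt x = s := by
    apply pullback.hom_ext
    · exact pullback.lift_fst _ _ _
    · exact (pullback.lift_snd _ _ _).trans hs.symm
  refine ⟨x, ?_⟩
  show secPt x _ = P
  rw [e]
  exact pointOfClosedPoint_apply _ _ _ _

end Groth.Agent.JacAJ27
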