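import Groth.Agent.JacAJ27.CurvePts
import Groth.Agent.Clifford24.Main
import Groth.Agent.CurveRR24.RatPoint

/-!
# Where twisting by a rational point lowers `h¹`
-/

set_option autoImplicit false
set_option linter.style.haveILetI false
set_option backward.isDefEq.respectTransparency.types false
set_option maxHeartbeats 1000000

universe u

open CategoryTheory CategoryTheory.Limits AlgebraicGeometry Opposite TopologicalSpace
open Groth.Agent.Coherent Groth.Agent.PicLib Groth.Agent.AmpleLib Groth.Agent.EulerLib Groth.Agent.CurveRR24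

namespace Groth.Agent.JacAJ27

variable {k : Type u} [Field k] {C : Scheme.{u}} [C.Over (Spec (CommRingCat.of k))]
  [IsProper (C ↘ Spec (CommRingCat.of k))] [IsIntegral C] [Smooth (C ↘ Spec (CommRingCat.of k))]
  [GeometricallyIntegral (C ↘ Spec (CommRingCat.of k))]

/-- `h¹` drops by one at the rational points where some differential twisted by `L⁻¹` does not vanish. -/
theorem exists_open_h1_twist (hdim : topologicalKrullDim C = 1) (L : C.Modules) (hL : PicF.IsInvertible L)
    (hL1 : 0 < Module.finrank k (Coh.HH C L 1)) :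
    ∃ U : C.Opens, (U : Set C).Nonempty ∧
      ∀ (σ : Spec (CommRingCat.of k) ⟶ C), σ ≫ (C ↘ Spec (CommRingCat.of k)) = 𝟙 _ → ∀ (M : C.Modules),
        PicF.IsInvertible M → Nonempty (CohB1.tensorMod M (ClSub.idealMod σ.ker) ≅ L) →
        ((∀ p, σ p ∈ U) → Module.finrank k (Coh.HH C M 1) = Module.finrank k (Coh.HH C L 1) - 1) ∧
        ((∀ p, σ p ∉ U) → Module.finrank k (Coh.HH C M 1) = Module.finrank k (Coh.HH C L 1)) := by
  haveI := EulerLib.isNoetherian_of_proper k (X := C)
  obtain ⟨L', hL', ⟨e⟩⟩ := CurveRR24.exists_inverse k hL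
  have hΩ : PicF.IsInvertible (Omega.sheaf (C ↘ Spec (CommRingCat.of k))) :=
    OmegaDual24.isInvertible_omega (k := k) hdim
  let N := CohB1.tensorMod (Omega.sheaf (C ↘ Spec (CommRingCat.of k))) L'
  have hN : PicF.IsInvertible N := isInvertible_tensorMod hΩ hL'
  have hL1' := Clifford24.h1_eq_h0_omega k hdim hL hL' e
  rw [hL1'] at hL1
  obtain ⟨s, hs⟩ := exists_ne_zero_of_nontrivial k
    (Module.nontrivial_of_finrank_pos (R := k) (M := Coh.HH C N 0) hL1)
  refine ⟨⨆ t : Γ(N, ⊤), glocus N t, ⟨genericPoint C, Opens.mem_iSup.2 ⟨s, genericPoint_mem_glocus hN hs⟩⟩,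
    fun σ hσ M hM hML => ?_⟩
  let pt := IsLocalRing.closedPoint k
  have hP : IsClosed ({σ pt} : Set C) := isClosed_section_point (X := C) σ hσ pt
  have hker : σ.ker = ptIdeal (σ pt) hP := ker_section (X := C) σ hσ pt
  have hres := finrank_resField_section (X := C) σ hσ pt
  have hI := isInvertible_pt (k := k) hdim hP
  rw [hker] at hML
  let M' := CohB1.tensorMod L' (ClSub.idealMod (ptIdeal (σ pt) hP))
  have hM' : PicF.IsInvertible M' := isInvertible_tensorMod hL' hI
  obtain ⟨e'⟩ : Nonempty (CohB1.tensorMod M M' ≅ Coh.structureModule C) := by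
    rw [← PicM.of_eq_one_iff (isInvertible_tensorMod hM hM'), ← PicM.of_mul hM hM', ← PicM.of_mul hL' hI,
      show PicM.of hM * (PicM.of hL' * PicM.of hI) = PicM.of hM * PicM.of hI * PicM.of hL' by ac_rfl,
      PicM.of_mul hM hI, (PicM.of_eq_iff (isInvertible_tensorMod hM hI) hL).2 hML, PicM.of_mul hL hL',
      PicM.of_eq_one_iff]
    exact ⟨e⟩
  obtain ⟨i⟩ : Nonempty (CohB1.tensorMod (Omega.sheaf (C ↘ Spec (CommRingCat.of k))) M' ≅
      CohB1.tensorMod N (ClSub.idealMod (ptIdeal (σ pt) hP))) := by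
    rw [← PicM.of_eq_iff (isInvertible_tensorMod hΩ hM') (isInvertible_tensorMod hN hI),
      ← PicM.of_mul hΩ hM', ← PicM.of_mul hL' hI, ← PicM.of_mul hN hI, ← PicM.of_mul hΩ hL', mul_assoc]
  rw [Clifford24.h1_eq_h0_omega k hdim hM hM' e', finrank_HH_congr k i 0, hL1']
  obtain ⟨hle, hge⟩ := h0_tensor_ptIdeal k hP hN
  refine ⟨fun h => ?_, fun h => h0_eq_of_all_vanish k hP hN fun t ht => h pt (Opens.mem_iSup.2 ⟨t, ht⟩)⟩
  obtain ⟨t, ht⟩ := Opens.mem_iSup.1 (h pt)
  have hne := h0_ne_of_mem_glocus k hP hN ht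
  rw [hres] at hge
  change _ = Module.finrank k (Coh.HH C N 0) - 1
  omega

end Groth.Agent.JacAJ27
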