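import Groth.Agent.JacAJ27.OpenFamily

/-!
# General sums of points have a single section
-/

set_option autoImplicit false
set_option linter.style.haveILetI false
set_option backward.isDefEq.respectTransparency.types false
set_option maxHeartbeats 1000000

universe u

open CategoryTheory CategoryTheory.Limits AlgebraicGeometry Opposite TopologicalSpace
open Groth.Agent.Coherent Groth.Agent.PicLib Groth.Agent.AmpleLib Groth.Agent.EulerLib Groth.Agent.CurveRR24

namespace Groth.Agent.JacAJ27

variable {k : Type u} [Field k] {C : Scheme.{u}} [C.Over (Spec (CommRingCat.of k))]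
  [IsProper (C ↘ Spec (CommRingCat.of k))] [Smooth (C ↘ Spec (CommRingCat.of k))]
  [IsIntegral C] [GeometricallyIntegral (C ↘ Spec (CommRingCat.of k))] [IsAlgClosed k]
  [SmoothOfRelativeDimension 1 (C ↘ Spec (CommRingCat.of k))]

omit [IsIntegral C] [GeometricallyIntegral (C ↘ Spec (CommRingCat.of k))] in
theorem isUnit_picM (a : PicM C) : IsUnit a :=
  IsUnit.of_mul_eq_one _ (PicM.exists_mul_eq_one a).choose_spec

theorem exists_open_sum (hdim : topologicalKrullDim C = 1) (r : ℕ) (hr : r ≤ Curv2.genus k C) :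
    ∃ U : (SymProd.fibPow (C ↘ Spec (CommRingCat.of k)) r).Opens,
      (U : Set ↥(SymProd.fibPow (C ↘ Spec (CommRingCat.of k)) r)).Nonempty ∧
      ∀ (x : Spec (CommRingCat.of k) ⟶ SymProd.fibPow (C ↘ Spec (CommRingCat.of k)) r)
        (hx : x ≫ WidePullback.base (fun (_ : Fin r) => (C ↘ Spec (CommRingCat.of k))) = 𝟙 _)
        (_ : ∀ p, x p ∈ U) (M : C.Modules) (_ : PicF.IsInvertible M)
        (_ : Nonempty (CohB1.tensorMod M (FGA.tensorList (List.ofFn fun i : Fin r =>
          ClSub.idealMod (x ≫ WidePullback.π (fun (_ : Fin r) => (C ↘ Spec (CommRingCat.of k))) i).ker)) ≅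
            Coh.structureModule C)),
        Module.finrank k (Coh.HH C M 0) = 1 := by
  haveI := locallyOfFiniteType_fibPow_base (C ↘ Spec (CommRingCat.of k)) r
  choose B hB using fun i => PicM.exists_mul_eq_one (projClass (k := k) (C := C) r i)
  obtain ⟨U, hU⟩ := exists_open_h0_lt (C := C) (WidePullback.base fun _ : Fin r => C ↘ Spec (CommRingCat.of k))
    (∏ i, B i) 2
  have hslice : ∀ (x : Spec (CommRingCat.of k) ⟶ SymProd.fibPow (C ↘ Spec (CommRingCat.of k)) r)
      (hx : x ≫ WidePullback.base (fun (_ : Fin r) => (C ↘ Spec (CommRingCat.of k))) = 𝟙 _),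
      PicM.pull (Pic13.sliceAt k C _ x hx) (∏ i, B i) *
        ∏ i, secClass (C := C) _ (π_over r x hx i) = 1 := by
    intro x hx
    rw [map_prod, ← Finset.prod_mul_distrib]
    refine Finset.prod_eq_one fun i _ => ?_
    rw [← pull_graphClass _ _ (WidePullback.π_arrow _ i) x hx (π_over r x hx i), ← map_mul]
    show PicM.pull _ (B i * projClass r i) = 1
    rw [mul_comm (B _), hB, map_one]
  refine ⟨U, ?_, fun x hx hxU M hM hMD => ?_⟩
  · obtain ⟨P, hP, hle⟩ := exists_points (k := k) hdim r hr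
    obtain ⟨x, hx, hxP⟩ := exists_tuple (k := k) r P hP
    refine ⟨x (IsLocalRing.closedPoint k), (hU x hx).2 ?_ _⟩
    refine Nat.lt_succ_of_le (hle _ ?_)
    rw [← hslice x hx]
    refine congrArg _ (Finset.prod_congr rfl fun i _ => secClass_congr (hxP i).symm _ _)
  · obtain ⟨h, he⟩ := exists_of_tensorList r _ fun i => PicTau27.isInvertible_point _ (π_over r x hx i)
    have hcl : PicM.of hM * ∏ i, secClass (C := C) _ (π_over r x hx i) = 1 := by
      show PicM.of hM * ∏ i, PicM.of (PicTau27.isInvertible_point _ (π_over r x hx i)) = 1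
      rw [← he, PicM.of_mul hM h, PicM.of_eq_one_iff]
      exact hMD
    have heq := (isUnit_picM _).mul_right_cancel (hcl.trans (hslice x hx).symm)
    have h1 := h0Cls_pos_of_prod hdim _ _ hcl
    have h2 := (hU x hx).1 hxU
    rw [← heq] at h2
    rw [h0Cls_of] at h1 h2
    omega

theorem exists_open_sum_sub (hdim : topologicalKrullDim C = 1) (g : ℕ) (hg : Curv2.genus k C = g)
    (σ : Spec (CommRingCat.of k) ⟶ C) (hσ : σ ≫ (C ↘ Spec (CommRingCat.of k)) = 𝟙 _) :
    ∃ U : (SymProd.fibPow (C ↘ Spec (CommRingCat.of k)) (2 * g)).Opens,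
      (U : Set ↥(SymProd.fibPow (C ↘ Spec (CommRingCat.of k)) (2 * g))).Nonempty ∧
      ∀ (x : Spec (CommRingCat.of k) ⟶ SymProd.fibPow (C ↘ Spec (CommRingCat.of k)) (2 * g))
        (hx : x ≫ WidePullback.base (fun (_ : Fin (2 * g)) => (C ↘ Spec (CommRingCat.of k))) = 𝟙 _)
        (_ : ∀ p, x p ∈ U) (M : C.Modules) (_ : PicF.IsInvertible M)
        (_ : Nonempty (CohB1.tensorMod M (FGA.tensorList (List.ofFn fun i : Fin (2 * g) =>
          ClSub.idealMod (x ≫ WidePullback.π (fun (_ : Fin (2 * g)) => (C ↘ Spec (CommRingCat.of k))) i).ker)) ≅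
            CohB1.tensorPow (ClSub.idealMod σ.ker) g)),
        Module.finrank k (Coh.HH C M 0) = 1 := by
  haveI := locallyOfFiniteType_fibPow_base (C ↘ Spec (CommRingCat.of k)) (2 * g)
  choose B hB using fun i => PicM.exists_mul_eq_one (projClass (k := k) (C := C) (2 * g) i)
  let q := WidePullback.base fun _ : Fin (2 * g) => C ↘ Spec (CommRingCat.of k)
  let c := secClass (C := C) σ hσ
  obtain ⟨U, hU⟩ := exists_open_h0_lt (C := C) q
    ((∏ i, B i) * PicM.pull (pullback.fst _ q : Pic13.prodK k C q ⟶ C) (c ^ g)) 2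
  have hslice : ∀ (x : Spec (CommRingCat.of k) ⟶ SymProd.fibPow (C ↘ Spec (CommRingCat.of k)) (2 * g))
      (hx : x ≫ q = 𝟙 _),
      PicM.pull (Pic13.sliceAt k C _ x hx) ((∏ i, B i) * PicM.pull (pullback.fst _ q : Pic13.prodK k C q ⟶ C) (c ^ g)) *
        ∏ i, secClass (C := C) _ (π_over (2 * g) x hx i) = c ^ g := by
    intro x hx
    rw [map_mul, pull_slice_fst, mul_right_comm, map_prod, ← Finset.prod_mul_distrib, Finset.prod_eq_one, one_mul]
    intro i _
    rw [← pull_graphClass _ _ (WidePullback.π_arrow _ i) x hx (π_over (2 * g) x hx i), ← map_mul]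
    show PicM.pull _ (B i * projClass (2 * g) i) = 1
    rw [mul_comm (B _), hB, map_one]
  refine ⟨U, ?_, fun x hx hxU M hM hMD => ?_⟩
  · obtain ⟨P, hP, hle⟩ := exists_points (k := k) hdim g hg.ge
    let F : Fin (2 * g) → (Spec (CommRingCat.of k) ⟶ C) := fun i => Fin.append P (fun _ => σ) (Fin.cast (two_mul g) i)
    have hF : ∀ i, F i ≫ (C ↘ Spec (CommRingCat.of k)) = 𝟙 _ := fun i => by
      refine Fin.addCases (fun l => ?_) (fun l => ?_) (Fin.cast (two_mul g) i) (motive := fun l =>
        Fin.append P (fun _ => σ) l ≫ (C ↘ Spec (CommRingCat.of k)) = 𝟙 _)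
      · rw [Fin.append_left]; exact hP l
      · rw [Fin.append_right]; exact hσ
    obtain ⟨x, hx, hxP⟩ := exists_tuple (k := k) (2 * g) F hF
    refine ⟨x (IsLocalRing.closedPoint k), (hU x hx).2 ?_ _⟩
    refine Nat.lt_succ_of_le (hle _ ?_)
    refine (isUnit_picM (c ^ g)).mul_right_cancel ?_
    rw [one_mul, mul_assoc]
    refine Eq.trans ?_ (hslice x hx)
    refine congrArg _ ?_
    rw [← (finCongr (two_mul g).symm).prod_comp, Fin.prod_univ_add]
    refine congrArg₂ (· * ·) (Finset.prod_congr rfl fun i _ => secClass_congr ?_ _ _) ?_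
    · rw [hxP]
      exact (Fin.append_left P (fun _ => σ) i).symm
    · rw [← Fin.prod_const]
      refine Finset.prod_congr rfl fun i _ => secClass_congr ?_ _ _
      rw [hxP]
      exact (Fin.append_right P (fun _ => σ) i).symm
  · obtain ⟨h, he⟩ := exists_of_tensorList (2 * g) _ fun i => PicTau27.isInvertible_point _ (π_over (2 * g) x hx i)
    have hI := PicTau27.isInvertible_point σ hσ
    have hcl : PicM.of hM * ∏ i, secClass (C := C) _ (π_over (2 * g) x hx i) = c ^ g := by
      show PicM.of hM * ∏ i, PicM.of (PicTau27.isInvertible_point _ (π_over (2 * g) x hx i)) = PicM.of hI ^ g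
      rw [← he, PicM.of_mul hM h, ← PicM.of_tensorPow hI, PicM.of_eq_iff]
      exact hMD
    have heq := (isUnit_picM _).mul_right_cancel (hcl.trans (hslice x hx).symm)
    have hd := congrArg (degCls k) hcl
    rw [degCls_mul hdim.le, degCls_prod_secClass hdim,
      show c ^ g = ∏ _i : Fin g, secClass (C := C) σ hσ from (Fin.prod_const g c).symm,
      degCls_prod_secClass hdim] at hd
    have h1 := h0Cls_ge (k := k) hdim (PicM.of hM)
    have h2 := (hU x hx).1 hxU
    rw [← heq] at h2
    rw [h0Cls_of] at h1 h2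
    rw [hg] at h1
    push_cast at hd
    omega

theorem exists_open_sum_diff (hdim : topologicalKrullDim C = 1) (g : ℕ) (hg : Curv2.genus k C = g)
    (σ : Spec (CommRingCat.of k) ⟶ C) (hσ : σ ≫ (C ↘ Spec (CommRingCat.of k)) = 𝟙 _) :
    ∃ V : (SymProd.fibPow (C ↘ Spec (CommRingCat.of k)) (2 * g)).Opens,
      (V : Set ↥(SymProd.fibPow (C ↘ Spec (CommRingCat.of k)) (2 * g))).Nonempty ∧
      ∀ (x : Spec (CommRingCat.of k) ⟶ SymProd.fibPow (C ↘ Spec (CommRingCat.of k)) (2 * g))
        (hx : x ≫ WidePullback.base (fun (_ : Fin (2 * g)) => (C ↘ Spec (CommRingCat.of k))) = 𝟙 _)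
        (_ : ∀ p, x p ∈ V) (M : C.Modules) (_ : PicF.IsInvertible M)
        (_ : Nonempty (CohB1.tensorMod M (CohB1.tensorMod
            (FGA.tensorList (List.ofFn fun i : Fin g => ClSub.idealMod (x ≫ WidePullback.π (fun (_ : Fin (2 * g)) => (C ↘ Spec (CommRingCat.of k))) (Fin.cast (two_mul g).symm (Fin.natAdd g i))).ker))
            (CohB1.tensorPow (ClSub.idealMod σ.ker) g)) ≅
          FGA.tensorList (List.ofFn fun i : Fin g => ClSub.idealMod (x ≫ WidePullback.π (fun (_ : Fin (2 * g)) => (C ↘ Spec (CommRingCat.of k))) (Fin.cast (two_mul g).symm (Fin.castAdd g i))).ker))),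
        Module.finrank k (Coh.HH C M 0) = 1 := by
  haveI := locallyOfFiniteType_fibPow_base (C ↘ Spec (CommRingCat.of k)) (2 * g)
  choose B hB using fun i => PicM.exists_mul_eq_one (projClass (k := k) (C := C) (2 * g) i)
  let q := WidePullback.base fun _ : Fin (2 * g) => C ↘ Spec (CommRingCat.of k)
  let c := secClass (C := C) σ hσ
  obtain ⟨c', hc⟩ := PicM.exists_mul_eq_one c
  let l : Fin g → Fin (2 * g) := fun i => Fin.cast (two_mul g).symm (Fin.castAdd g i)
  let r : Fin g → Fin (2 * g) := fun i => Fin.cast (two_mul g).symm (Fin.natAdd g i)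
  obtain ⟨V, hV⟩ := exists_open_h0_lt (C := C) q
    ((∏ i, projClass (2 * g) (l i)) * (∏ i, B (r i)) *
      PicM.pull (pullback.fst _ q : Pic13.prodK k C q ⟶ C) (c' ^ g)) 2
  have hslice : ∀ (x : Spec (CommRingCat.of k) ⟶ SymProd.fibPow (C ↘ Spec (CommRingCat.of k)) (2 * g))
      (hx : x ≫ q = 𝟙 _),
      PicM.pull (Pic13.sliceAt k C _ x hx) ((∏ i, projClass (2 * g) (l i)) * (∏ i, B (r i)) *
          PicM.pull (pullback.fst _ q : Pic13.prodK k C q ⟶ C) (c' ^ g)) *
        ((∏ i, secClass (C := C) _ (π_over (2 * g) x hx (r i))) * c ^ g) =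
      ∏ i, secClass (C := C) _ (π_over (2 * g) x hx (l i)) := by
    intro x hx
    have hp : ∀ i, PicM.pull (Pic13.sliceAt k C _ x hx) (projClass (2 * g) i) =
        secClass (C := C) _ (π_over (2 * g) x hx i) :=
      fun i => pull_graphClass _ _ (WidePullback.π_arrow _ i) x hx (π_over (2 * g) x hx i)
    rw [map_mul, map_mul, pull_slice_fst, map_prod, map_prod, Finset.prod_congr rfl fun i _ => hp (l i)]
    rw [← Finset.prod_congr rfl fun i _ => hp (r i)]
    have h2 : (∏ i, PicM.pull (Pic13.sliceAt k C q x hx) (B (r i))) *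
        (∏ i, PicM.pull (Pic13.sliceAt k C q x hx) (projClass (2 * g) (r i))) = 1 := by
      rw [← Finset.prod_mul_distrib]
      exact Finset.prod_eq_one fun i _ => by rw [← map_mul, mul_comm (B _), hB, map_one]
    calc _ = (∏ i, secClass (C := C) _ (π_over (2 * g) x hx (l i))) *
          ((∏ i, PicM.pull (Pic13.sliceAt k C q x hx) (B (r i))) *
            (∏ i, PicM.pull (Pic13.sliceAt k C q x hx) (projClass (2 * g) (r i)))) * (c * c') ^ g := by
          rw [mul_pow]; ac_rfl
      _ = _ := by rw [h2, hc, one_pow, mul_one, mul_one]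
  refine ⟨V, ?_, fun x hx hxU M hM hMD => ?_⟩
  · obtain ⟨P, hP, hle⟩ := exists_points (k := k) hdim g hg.ge
    let F : Fin (2 * g) → (Spec (CommRingCat.of k) ⟶ C) := fun i => Fin.append (fun _ => σ) P (Fin.cast (two_mul g) i)
    have hF : ∀ i, F i ≫ (C ↘ Spec (CommRingCat.of k)) = 𝟙 _ := fun i => by
      refine Fin.addCases (fun l => ?_) (fun l => ?_) (Fin.cast (two_mul g) i) (motive := fun l =>
        Fin.append (fun _ => σ) P l ≫ (C ↘ Spec (CommRingCat.of k)) = 𝟙 _)
      · rw [Fin.append_left]; exact hσ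
      · rw [Fin.append_right]; exact hP l
    obtain ⟨x, hx, hxP⟩ := exists_tuple (k := k) (2 * g) F hF
    refine ⟨x (IsLocalRing.closedPoint k), (hV x hx).2 ?_ _⟩
    refine Nat.lt_succ_of_le (hle _ ?_)
    refine (isUnit_picM (c ^ g)).mul_right_cancel ?_
    rw [one_mul, mul_assoc]
    have h := hslice x hx
    rw [Finset.prod_congr rfl fun i _ => secClass_congr (Q := P i) (by rw [hxP]; exact Fin.append_right (fun _ => σ) P i) _ (hP i),
      show (∏ i, secClass (C := C) _ (π_over (2 * g) x hx (l i))) = c ^ g by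
        rw [← Fin.prod_const]
        exact Finset.prod_congr rfl fun i _ => secClass_congr (by rw [hxP]; exact Fin.append_left (fun _ => σ) P _) _ _] at h
    exact h
  · obtain ⟨h₁, he₁⟩ := exists_of_tensorList g _ fun i => PicTau27.isInvertible_point _ (π_over (2 * g) x hx (r i))
    obtain ⟨h₂, he₂⟩ := exists_of_tensorList g _ fun i => PicTau27.isInvertible_point _ (π_over (2 * g) x hx (l i))
    have hI := PicTau27.isInvertible_point σ hσ
    have hcl : PicM.of hM * ((∏ i, secClass (C := C) _ (π_over (2 * g) x hx (r i))) * c ^ g) =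
        ∏ i, secClass (C := C) _ (π_over (2 * g) x hx (l i)) := by
      show PicM.of hM * ((∏ i, PicM.of (PicTau27.isInvertible_point _ (π_over (2 * g) x hx (r i)))) * PicM.of hI ^ g) =
        ∏ i, PicM.of (PicTau27.isInvertible_point _ (π_over (2 * g) x hx (l i)))
      rw [← he₁, ← he₂, ← PicM.of_tensorPow hI, PicM.of_mul h₁, PicM.of_mul hM, PicM.of_eq_iff]
      exact hMD
    have heq := (isUnit_picM _).mul_right_cancel (hcl.trans (hslice x hx).symm)
    have hd := congrArg (degCls k) hcl
    rw [degCls_mul hdim.le, degCls_mul hdim.le, degCls_prod_secClass hdim,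
      show c ^ g = ∏ _i : Fin g, secClass (C := C) σ hσ from (Fin.prod_const g c).symm,
      degCls_prod_secClass hdim, degCls_prod_secClass hdim] at hd
    have h1 := h0Cls_ge (k := k) hdim (PicM.of hM)
    have h2 := (hV x hx).1 hxU
    rw [← heq] at h2
    rw [h0Cls_of] at h1 h2
    rw [hg] at h1
    omega

end Groth.Agent.JacAJ27
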