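import Groth.Agent.JacAJ27.Kappa

/-!
# Reflection of the theta divisor at the canonical point
-/

set_option autoImplicit false
set_option linter.style.haveILetI false
set_option backward.isDefEq.respectTransparency.types false
set_option maxHeartbeats 1000000

universe u

open CategoryTheory CategoryTheory.Limits AlgebraicGeometry MonoidalCategory CartesianMonoidalCategory
open scoped MonObj
open Groth.Agent.PicLib Groth.Agent.AmpleLib Groth.Agent.CurveRR24

namespace Groth.Agent.JacAJ27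

section Basic

variable {k : Type u} [Field k] {C : Scheme.{u}} [C.Over (Spec (CommRingCat.of k))]
  [IsProper (C ↘ Spec (CommRingCat.of k))]
variable {J : Over (Spec (CommRingCat.of k))} [GrpObj J] [IsCommMonObj J]

/-- The reflected translate on geometric points. -/
theorem mem_reflect_iff {Ω : Type u} [Field Ω] [IsAlgClosed Ω] [Algebra k Ω]
    (j : Over.mk (C ↘ Spec (CommRingCat.of k)) ⟶ J) (n : ℕ) (κ c : 𝟙_ (Over (Spec (CommRingCat.of k))) ⟶ J)
    (z : tPt Ω ⟶ J) :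
    (∀ p, z.left p ∈ (Jac.transl J κ).left '' (((𝟙 J)⁻¹).left '' ((Jac.transl J c).left ''
      Set.range (sumMap j n).left))) ↔ cst Ω κ * z⁻¹ * (cst Ω c)⁻¹ ∈ Sums j (tPt Ω) n := by
  haveI : LocallyOfFiniteType (Over.mk (WidePullback.base fun _ : Fin n => C ↘ Spec (CommRingCat.of k))).hom :=
    locallyOfFiniteType_fibPow_base (C ↘ Spec (CommRingCat.of k)) n
  have e : (Jac.transl J κ).left '' (((𝟙 J)⁻¹).left '' ((Jac.transl J c).left '' Set.range (sumMap j n).left)) =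
      Set.range (((sumMap j n ≫ Jac.transl J c) ≫ (𝟙 J)⁻¹) ≫ Jac.transl J κ).left := by
    rw [← Set.range_comp, ← Set.range_comp, ← Set.range_comp]
    rfl
  rw [e, mem_range_iff_exists_lift, mem_sums_iff_exists_lift]
  refine exists_congr fun y => ?_
  rw [← Category.assoc, ← Category.assoc, ← Category.assoc, comp_transl, GrpObj.comp_inv, Category.comp_id,
    comp_transl]
  show (y ≫ sumMap j n * cst Ω c)⁻¹ * cst Ω κ = z ↔ y ≫ sumMap j n = cst Ω κ * z⁻¹ * (cst Ω c)⁻¹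
  rw [eq_mul_inv_iff_mul_eq, eq_mul_inv_iff_mul_eq, inv_mul_eq_iff_eq_mul]
  constructor <;> intro h
  · rw [h, mul_comm]
  · rw [← h, mul_comm]

theorem set_eq_of_geomPts {Y : Over (Spec (CommRingCat.of k))} {A B : Set Y.left}
    (h : ∀ (Ω : Type u) [Field Ω] [IsAlgClosed Ω] [Algebra k Ω] (z : tPt Ω ⟶ Y),
      (∀ p, z.left p ∈ A) ↔ ∀ p, z.left p ∈ B) : A = B := by
  ext x
  obtain ⟨Ω, _, _, _, a, ha⟩ := exists_geomPt x
  constructor <;> intro hx
  · exact ha (IsLocalRing.closedPoint Ω) ▸ (h Ω a).1 (fun p => (ha p).symm ▸ hx) _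
  · exact ha (IsLocalRing.closedPoint Ω) ▸ (h Ω a).2 (fun p => (ha p).symm ▸ hx) _

/-- Membership of a rational point is visible at every geometric point. -/
theorem cst_mem_iff {Ω : Type u} [Field Ω] [IsAlgClosed Ω] [Algebra k Ω]
    (j : Over.mk (C ↘ Spec (CommRingCat.of k)) ⟶ J) (n : ℕ) (a : 𝟙_ (Over (Spec (CommRingCat.of k))) ⟶ J) :
    cst Ω a ∈ Sums j (tPt Ω) n ↔ ∀ p, a.left p ∈ Set.range (sumMap j n).left := by
  rw [← mem_range_sums_iff]
  constructor
  · intro h p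
    rw [← cst_apply Ω a (IsLocalRing.closedPoint Ω) p]
    exact h _
  · intro h p
    rw [cst_apply Ω a p (IsLocalRing.closedPoint k)]
    exact h _

end Basic

variable {k : Type u} [Field k] {C : Scheme.{u}} [C.Over (Spec (CommRingCat.of k))]
  [IsProper (C ↘ Spec (CommRingCat.of k))]
  [Smooth (C ↘ Spec (CommRingCat.of k))] [IsIntegral C] [GeometricallyIntegral (C ↘ Spec (CommRingCat.of k))]
  [IsAlgClosed k]
variable {J : Over (Spec (CommRingCat.of k))} [GrpObj J] [IsCommMonObj J]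
variable {ψ : (ModFun.PicDeg (C ↘ Spec (CommRingCat.of k)) 0).Hom ⊤ J}
  (hJ : Jac.IsJacobian (C ↘ Spec (CommRingCat.of k)) ⊤ J ψ) (hdim : topologicalKrullDim C = 1)
  {g : ℕ} (hg : Curv2.genus k C = g)
  {σ : Spec (CommRingCat.of k) ⟶ C} (hσ : σ ≫ (C ↘ Spec (CommRingCat.of k)) = 𝟙 _)
  {j : Over.mk (C ↘ Spec (CommRingCat.of k)) ⟶ J}
  (hj : Jac.IsAbelJacobiAt (C ↘ Spec (CommRingCat.of k)) σ ψ j)
  {κ : (𝟙_ (Over (Spec (CommRingCat.of k)))) ⟶ J} (hκ : IsKappa ψ σ (2 * g - 2) κ)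

include hJ hdim hg hσ hj hκ

/-- The symmetry of the theta divisor about the canonical point, at geometric points. -/
theorem reflect_mem_iff {Ω : Type u} [Field Ω] [IsAlgClosed Ω] [Algebra k Ω] (hg1 : 1 ≤ g) (w : tPt Ω ⟶ J) :
    cst Ω κ * w⁻¹ ∈ Sums j (tPt Ω) (g - 1) ↔ w ∈ Sums j (tPt Ω) (g - 1) := by
  obtain ⟨c', hc⟩ := PicM.exists_mul_eq_one (baseCls (Ω := Ω) σ hσ hdim)
  rw [mem_sums_iff hJ hdim hσ hj hc, mem_sums_iff hJ hdim hσ hj hc]
  have := rr_reflect hJ hdim hσ hj hg (show g - 1 + (g - 1) = 2 * g - 2 by omega) hκ hc w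
  omega

/-- The reflection of a translate of the theta divisor. -/
theorem reflect_theta (hg1 : 1 ≤ g) (a : (𝟙_ (Over (Spec (CommRingCat.of k)))) ⟶ J) :
    (Jac.transl J κ).left '' (((𝟙 J)⁻¹).left '' ((Jac.transl J a).left '' Set.range (sumMap j (g - 1)).left)) =
      (Jac.transl J a⁻¹).left '' Set.range (sumMap j (g - 1)).left := by
  refine set_eq_of_geomPts fun Ω _ _ _ z => ?_
  rw [mem_reflect_iff, mem_translate_sums_iff, cst_inv, inv_inv,
    ← reflect_mem_iff hJ hdim hg hσ hj hκ hg1 (z * cst Ω a)]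
  rw [show cst Ω κ * (z * cst Ω a)⁻¹ = cst Ω κ * z⁻¹ * (cst Ω a)⁻¹ by rw [mul_inv]; ac_rfl]

/-- The dichotomy for an effective class that contains a point. -/
theorem split_cases {Ω : Type u} [Field Ω] [IsAlgClosed Ω] [Algebra k Ω] {r : ℕ} (hr : r + 2 ≤ g) (v y x : tPt Ω ⟶ J)
    (hv : v ∈ Sums j (tPt Ω) (r + 1)) (hy : y ∈ Sums j (tPt Ω) (g - 1 - r)) (hx : x ∈ Sums j (tPt Ω) 1)
    (hvy : v * y * x⁻¹ ∈ Sums j (tPt Ω) (g - 1)) (hyx : y * x⁻¹ ∉ Sums j (tPt Ω) (g - 2 - r)) :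
    v * x⁻¹ ∈ Sums j (tPt Ω) r ∨ cst Ω κ * (v * y)⁻¹ ∈ Sums j (tPt Ω) (g - 2) := by
  refine (em _).symm.imp_left fun hno => ?_
  obtain ⟨c', hc⟩ := PicM.exists_mul_eq_one (baseCls (Ω := Ω) σ hσ hdim)
  obtain ⟨xs, hxs⟩ := hx
  obtain ⟨R, hR⟩ : ∃ R : tPt Ω ⟶ Over.mk (C ↘ Spec (CommRingCat.of k)), R ≫ j = x :=
    ⟨xs 0, by rw [← hxs, Fin.prod_univ_one]⟩
  -- the class of the sum
  let A := cls hJ (v * y) * c' ^ g
  have hrr := rr_reflect hJ hdim hσ hj hg (show g + (g - 2) = 2 * g - 2 by omega) hκ hc (v * y)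
  rw [mem_sums_iff hJ hdim hσ hj hc] at hno
  have hA1 : h0Cls Ω A = 1 := by
    simp only [A]
    omega
  have hAR : A * ptClass (k := Ω) (dim_XPt hdim) (isClosed_secPt R) = cls hJ (v * y * x⁻¹) * c' ^ (g - 1) := by
    have h1 := cls_comp hJ hdim hσ hj R
    rw [hR] at h1
    have h2 : cls hJ x * cls hJ x⁻¹ = 1 := by
      rw [← cls_mul hJ hdim.le, mul_inv_cancel, cls_one hJ hdim.le]
    rw [cls_mul hJ hdim.le (v * y) x⁻¹]
    calc cls hJ (v * y) * c' ^ g * ptClass (k := Ω) (dim_XPt hdim) (isClosed_secPt R)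
        = cls hJ (v * y) * c' ^ g * (cls hJ x * cls hJ x⁻¹) *
            ptClass (k := Ω) (dim_XPt hdim) (isClosed_secPt R) := by rw [h2, _root_.mul_one]
      _ = cls hJ (v * y) * cls hJ x⁻¹ * c' ^ g *
            (cls hJ x * ptClass (k := Ω) (dim_XPt hdim) (isClosed_secPt R)) := by ac_rfl
      _ = cls hJ (v * y) * cls hJ x⁻¹ * (c' ^ (g - 1) * c') * baseCls σ hσ hdim := by
          rw [h1, ← pow_succ, Nat.sub_add_cancel (show 1 ≤ g by omega)]
      _ = cls hJ (v * y) * cls hJ x⁻¹ * c' ^ (g - 1) * (baseCls σ hσ hdim * c') := by ac_rfl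
      _ = _ := by rw [hc, _root_.mul_one]
  rw [mem_sums_iff hJ hdim hσ hj hc] at hvy
  obtain ⟨xv, hxv⟩ := hv
  obtain ⟨xy, hxy⟩ := hy
  let X : Fin (r + 1 + (g - 1 - r)) → (tPt Ω ⟶ Over.mk (C ↘ Spec (CommRingCat.of k))) := Fin.append xv xy
  have hX : ∏ i, X i ≫ j = v * y := by
    rw [Fin.prod_univ_add]
    simp [X, hxv, hxy]
  have heff : A * ∏ i, ptClass (k := Ω) (dim_XPt hdim) (isClosed_secPt (X i)) = 1 := by
    have h1 := cls_sum_mul hJ hdim hσ hj X
    rw [hX] at h1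
    simp only [A]
    rw [mul_right_comm, h1, show r + 1 + (g - 1 - r) = g by omega, ← mul_pow, hc, one_pow]
  have key : ∀ {A B : XPt (k := k) C Ω} (hA : IsClosed ({A} : Set (XPt (k := k) C Ω)))
      (hB : IsClosed ({B} : Set (XPt (k := k) C Ω))), A = B →
      ptClass (k := Ω) (dim_XPt hdim) hA = ptClass (k := Ω) (dim_XPt hdim) hB := by
    intro A B hA hB h
    subst h
    rfl
  have same : ∀ P : tPt Ω ⟶ Over.mk (C ↘ Spec (CommRingCat.of k)), geomPnt R = geomPnt P → P ≫ j = x := by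
    intro P hP
    refine cls_injective hJ ?_
    have h1 := cls_comp hJ hdim hσ hj R
    have h2 := cls_comp hJ hdim hσ hj P
    rw [hR] at h1
    rw [← key (isClosed_secPt R) (isClosed_secPt P) hP, ← h1] at h2
    exact (isUnit_cls _).mul_right_cancel h2
  by_contra hnot
  have hne : ∀ i, geomPnt R ≠ geomPnt (X i) := by
    refine Fin.addCases (fun i hi => ?_) fun i hi => ?_
    · apply hnot
      simp only [X, Fin.append_left] at hi
      refine ⟨fun l => xv (i.succAbove l), ?_⟩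
      rw [← hxv, Fin.prod_univ_succAbove _ i, same _ hi, mul_comm x, mul_inv_cancel_right]
    · apply hyx
      simp only [X, Fin.append_right] at hi
      obtain ⟨m, hm⟩ : ∃ m, g - 1 - r = m + 1 := ⟨g - 2 - r, by omega⟩
      rw [show g - 2 - r = m by omega]
      let i' : Fin (m + 1) := Fin.cast hm i
      refine ⟨fun l => xy (Fin.cast hm.symm (i'.succAbove l)), ?_⟩
      rw [← hxy, ← (finCongr hm.symm).prod_comp, Fin.prod_univ_succAbove _ i']
      simp only [finCongr_apply]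
      rw [show xy (Fin.cast hm.symm i') ≫ j = x from same _ hi, mul_comm x, mul_inv_cancel_right]
  have hlt := h0Cls_drop (k := Ω) (dim_XPt hdim) _ A (fun i => geomPnt (X i)) (fun i => isClosed_secPt (X i)) heff
    (isClosed_secPt R) hne
  rw [hAR, hA1] at hlt
  omega

/-- The intersection of a translate of `W_{r+1}` with a translate of the theta divisor. -/
theorem inter_eq_union {r : ℕ} (hr : r + 2 ≤ g) (a b x y : (𝟙_ (Over (Spec (CommRingCat.of k)))) ⟶ J)
    (hx : ∀ p, x.left p ∈ Set.range (sumMap j 1).left) (hy : ∀ p, y.left p ∈ Set.range (sumMap j (g - 1 - r)).left)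
    (hab : a * x = b * y)
    (hnot : ¬ (Jac.transl J a).left '' Set.range (sumMap j (r + 1)).left ⊆
      (Jac.transl J b).left '' Set.range (sumMap j (g - 1)).left) :
    (Jac.transl J a).left '' Set.range (sumMap j (r + 1)).left ∩
        (Jac.transl J b).left '' Set.range (sumMap j (g - 1)).left =
      (Jac.transl J (a * x)).left '' Set.range (sumMap j r).left ∪
        ((Jac.transl J a).left '' Set.range (sumMap j (r + 1)).left ∩ (Jac.transl J κ).left '' (((𝟙 J)⁻¹).left ''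
          ((Jac.transl J (y * a⁻¹)).left '' Set.range (sumMap j (g - 2)).left))) := by
  rw [translate_subset_iff hJ hdim hg hσ hj (r + 1) (by omega)] at hnot
  refine set_eq_of_geomPts fun Ω _ _ _ z => ?_
  have hz : ∀ p q, z.left p = z.left q := fun p q => congrArg _ (Subsingleton.elim (α := PrimeSpectrum Ω) _ _)
  have hI : ∀ A B : Set J.left, (∀ p, z.left p ∈ A ∩ B) ↔ (∀ p, z.left p ∈ A) ∧ ∀ p, z.left p ∈ B :=
    fun A B => ⟨fun h => ⟨fun p => (h p).1, fun p => (h p).2⟩, fun h p => ⟨h.1 p, h.2 p⟩⟩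
  have hU : ∀ A B : Set J.left, (∀ p, z.left p ∈ A ∪ B) ↔ (∀ p, z.left p ∈ A) ∨ ∀ p, z.left p ∈ B := by
    refine fun A B => ⟨fun h => ?_, fun h p => h.elim (fun h' => .inl (h' p)) fun h' => .inr (h' p)⟩
    exact (h (IsLocalRing.closedPoint Ω)).imp (fun h' p => hz (IsLocalRing.closedPoint Ω) p ▸ h')
      (fun h' p => hz (IsLocalRing.closedPoint Ω) p ▸ h')
  rw [hI, hU, hI, mem_translate_sums_iff, mem_translate_sums_iff, mem_translate_sums_iff, mem_reflect_iff]
  have hx' := (cst_mem_iff (Ω := Ω) j 1 x).2 hx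
  have hy' := (cst_mem_iff (Ω := Ω) j (g - 1 - r) y).2 hy
  have hab' : cst Ω a * cst Ω x = cst Ω b * cst Ω y := by rw [← cst_mul, ← cst_mul, hab]
  have hb : cst Ω b = cst Ω a * cst Ω x * (cst Ω y)⁻¹ := eq_mul_inv_of_mul_eq hab'.symm
  rw [cst_mul, cst_mul, cst_inv, hb]
  constructor
  · rintro ⟨h1, h2⟩
    have h2' : z * (cst Ω a)⁻¹ * cst Ω y * (cst Ω x)⁻¹ ∈ Sums j (tPt Ω) (g - 1) := by
      convert h2 using 1
      simp only [mul_inv, inv_inv]
      ac_rfl
    have hyx : cst Ω y * (cst Ω x)⁻¹ ∉ Sums j (tPt Ω) (g - 2 - r) := by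
      intro h
      apply hnot
      intro p
      rw [show g - 1 - (r + 1) = g - 2 - r by omega, ← cst_apply Ω a (IsLocalRing.closedPoint Ω) p]
      refine (mem_translate_sums_iff j _ b (cst Ω a)).2 ?_ _
      rw [hb]
      convert h using 1
      simp only [mul_inv, inv_inv]
      rw [← mul_assoc (cst Ω a), ← mul_assoc (cst Ω a), mul_inv_cancel, _root_.one_mul, mul_comm]
    rcases split_cases hJ hdim hg hσ hj hκ hr _ _ _ h1 hy' hx' h2' hyx with h | h
    · left
      convert h using 1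
      rw [mul_inv]
      ac_rfl
    · refine Or.inr ⟨h1, ?_⟩
      convert h using 1
      simp only [mul_inv, inv_inv]
      ac_rfl
  · rintro (h | ⟨h1, h⟩)
    · refine ⟨?_, ?_⟩
      · have := mul_mem_sums j h hx'
        convert this using 1
        rw [mul_inv, ← mul_assoc, inv_mul_cancel_right]
      · have := mul_mem_sums j h hy'
        rw [show r + (g - 1 - r) = g - 1 by omega] at this
        convert this using 1
        simp only [mul_inv, inv_inv]
        ac_rfl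
    · refine ⟨h1, ?_⟩
      have := mul_mem_sums j h hx'
      rw [show g - 2 + 1 = g - 1 by omega,
        ← reflect_mem_iff hJ hdim hg hσ hj hκ (show 1 ≤ g by omega)] at this
      convert this using 1
      simp only [mul_inv, inv_inv, inv_inv]
      rw [show cst Ω κ * ((cst Ω κ)⁻¹ * z * (cst Ω y * (cst Ω a)⁻¹) * (cst Ω x)⁻¹) =
        cst Ω κ * (cst Ω κ)⁻¹ * (z * (cst Ω y * (cst Ω a)⁻¹) * (cst Ω x)⁻¹) by ac_rfl, mul_inv_cancel,
        _root_.one_mul]
      ac_rfl

end Groth.Agent.JacAJ27
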