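import Groth.Agent.JacAJ27.AbelPts
import Groth.Agent.AbVarLib.GeomIntegralSmooth
import Groth.Agent.GenSmoothLib.OmegaFree
import Mathlib.AlgebraicGeometry.AlgClosed.Basic

/-!
# The uniqueness half of the Torelli theorem
-/

set_option autoImplicit false
set_option linter.style.haveILetI false
set_option backward.isDefEq.respectTransparency.types false
set_option maxHeartbeats 1000000

universe u

open CategoryTheory CategoryTheory.Limits AlgebraicGeometry MonoidalCategory CartesianMonoidalCategory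
open scoped MonObj
open Groth.Agent.PicLib Groth.Agent.AmpleLib Groth.Agent.CurveRR24

namespace Groth.Agent.JacAJ27

variable {k : Type u} [Field k] [IsAlgClosed k] {C : Scheme.{u}} [C.Over (Spec (CommRingCat.of k))]
  [IsProper (C ↘ Spec (CommRingCat.of k))] [Smooth (C ↘ Spec (CommRingCat.of k))] [IsIntegral C]

local notation "U" => (𝟙_ (Over (Spec (CommRingCat.of k))))
local notation "qC" => C ↘ Spec (CommRingCat.of k)

/-- The point of `C` under a rational point. -/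
noncomputable abbrev pnt (x : U ⟶ Over.mk qC) : C :=
  (x.left : Spec (CommRingCat.of k) ⟶ C) (IsLocalRing.closedPoint k)

theorem isClosed_pnt (x : U ⟶ Over.mk qC) : IsClosed ({pnt x} : Set C) :=
  isClosed_section_point (X := C) (x.left : Spec (CommRingCat.of k) ⟶ C) (Over.w x) _

theorem pnt_injective : Function.Injective (pnt (k := k) (C := C)) := fun a b h =>
  Over.OverMorphism.ext (ext_of_apply_closedPoint_eq qC (Over.w a) (Over.w b) h)

theorem secClass_eq_ptClass [SmoothOfRelativeDimension 1 qC] [GeometricallyIntegral qC]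
    (hdim : topologicalKrullDim C = 1) (x : U ⟶ Over.mk qC) :
    secClass (C := C) x.left (Over.w x) = ptClass (k := k) hdim (isClosed_pnt x) := by
  rw [secClass, ptClass, PicM.of_eq_iff]
  exact ⟨eqToIso (by rw [ker_section (X := C) (x.left : Spec (CommRingCat.of k) ⟶ C) (Over.w x) (IsLocalRing.closedPoint k)])⟩

/-- Any finite set of rational points misses one. -/
theorem exists_pt_notMem (hdim : topologicalKrullDim C = 1) (s : Set (U ⟶ Over.mk qC)) (hs : s.Finite) :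
    ∃ x, x ∉ s := by
  by_contra h
  push Not at h
  haveI : JacobsonSpace ↥C := LocallyOfFiniteType.jacobsonSpace qC
  have hsub : closedPoints C ⊆ pnt '' s := fun c hc => by
    let x : U ⟶ Over.mk qC := Over.homMk (pointOfClosedPoint qC c hc) (pointOfClosedPoint_comp _ _ _)
    exact ⟨x, h x, pointOfClosedPoint_apply _ _ _ _⟩
  have hfin : (closedPoints C).Finite := (hs.image _).subset hsub
  have hcl : IsClosed (closedPoints C) := by
    rw [← Set.biUnion_of_singleton (closedPoints C)]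
    exact hfin.isClosed_biUnion fun c hc => hc
  have huniv : closedPoints C = Set.univ := hcl.closure_eq.symm.trans closure_closedPoints
  exact CurvesLib24.not_isClosed_genericPoint hdim (Set.eq_univ_iff_forall.1 huniv (genericPoint C))

variable {C' : Scheme.{u}} [C'.Over (Spec (CommRingCat.of k))]

local notation "qD" => C' ↘ Spec (CommRingCat.of k)

variable {J J' : Over (Spec (CommRingCat.of k))} [GrpObj J] [GrpObj J']

/-- The hypothesis at a point. -/
theorem point_eq (j : Over.mk qC ⟶ J) (j' : Over.mk qD ⟶ J') (β : J ⟶ J') (a : Over.mk qC ⟶ Over.mk qD)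
    (c : U ⟶ J') (s : ℤ) (h : a ≫ j' = (j ≫ β) ^ s * (toUnit (Over.mk qC) ≫ c)) (x : U ⟶ Over.mk qC) :
    (x ≫ a) ≫ j' = (x ≫ j ≫ β) ^ s * c := by
  rw [Category.assoc, h, MonObj.comp_mul, GrpObj.comp_zpow, ← Category.assoc x (toUnit _) c,
    toUnit_unique (x ≫ toUnit (Over.mk qC)) (𝟙 _), Category.id_comp]

variable [IsProper (C' ↘ Spec (CommRingCat.of k))] [Smooth (C' ↘ Spec (CommRingCat.of k))] [IsIntegral C'] [IsCommMonObj J']

theorem hom_ext_pnt {a₁ a₂ : C ⟶ C'} (h₁ : a₁ ≫ qD = qC) (h₂ : a₂ ≫ qD = qC)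
    (h : ∀ x : U ⟶ Over.mk qC, a₁ (pnt x) = a₂ (pnt x)) : a₁ = a₂ := by
  haveI : LocallyOfFiniteType (a₁ ≫ qD) := by rw [h₁]; infer_instance
  refine ext_of_apply_eq (K := k) qD Set.univ isClosed_univ.isLocallyClosed dense_univ (fun c _ hc => ?_)
    (h₁.trans h₂.symm)
  have := h (Over.homMk (pointOfClosedPoint qC c hc) (pointOfClosedPoint_comp _ _ _))
  have e : pointOfClosedPoint qC c hc (IsLocalRing.closedPoint k) = c := pointOfClosedPoint_apply _ _ _ _
  simp only [pnt, Over.homMk_left] at this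
  exact (congrArg a₁ e).symm.trans (this.trans (congrArg a₂ e))

theorem torelli_unique_sign (hdim : topologicalKrullDim C = 1) (hdim' : topologicalKrullDim C' = 1)
    (hg : 2 ≤ Curv2.genus k C') (σ : Spec (CommRingCat.of k) ⟶ C) (hσ : σ ≫ qC = 𝟙 _)
    (σ' : Spec (CommRingCat.of k) ⟶ C') (hσ' : σ' ≫ qD = 𝟙 _) {ψ' : (ModFun.PicDeg qD 0).Hom ⊤ J'}
    (hJ' : Jac.IsJacobian qD ⊤ J' ψ') (j : Over.mk qC ⟶ J) (j' : Over.mk qD ⟶ J')
    (hj' : Jac.IsAbelJacobiAt qD σ' ψ' j') (β : J ⟶ J')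
    (α₁ α₂ : C ≅ C') (hα₁ : α₁.hom ≫ qD = qC) (hα₂ : α₂.hom ≫ qD = qC)
    (c₁ c₂ : U ⟶ J') (s : ℤ)
    (h₁ : (Over.homMk α₁.hom hα₁ : Over.mk qC ⟶ Over.mk qD) ≫ j' = (j ≫ β) ^ s * (toUnit (Over.mk qC) ≫ c₁))
    (h₂ : (Over.homMk α₂.hom hα₂ : Over.mk qC ⟶ Over.mk qD) ≫ j' = (j ≫ β) ^ s * (toUnit (Over.mk qC) ≫ c₂)) :
    α₁ = α₂ ∧ c₁ = c₂ := by
  haveI := GenSmoothLib.smoothOfRelativeDimension_toField qD (d := 1) (by rw [hdim']; rfl)
  haveI : GeometricallyIntegral qD := AbVarLib.geometricallyIntegral_of_isAlgClosed qD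
  let x₀ : U ⟶ Over.mk qC := Over.homMk σ hσ
  let P : (U ⟶ Over.mk qC) → (U ⟶ Over.mk qD) := fun x => x ≫ Over.homMk α₁.hom hα₁
  let Q : (U ⟶ Over.mk qC) → (U ⟶ Over.mk qD) := fun x => x ≫ Over.homMk α₂.hom hα₂
  let p := fun x => pnt (P x)
  let r := fun x => pnt (Q x)
  have hpinj : Function.Injective p := fun x y hxy => pnt_injective (α₁.hom.homeomorph.injective hxy)
  have hrinj : Function.Injective r := fun x y hxy => pnt_injective (α₂.hom.homeomorph.injective hxy)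
  let b := fun z : U ⟶ Over.mk qD => ptClass (k := k) hdim' (isClosed_pnt z)
  have hrel : ∀ x, b (P x) * b (Q x₀) = b (P x₀) * b (Q x) := fun x => by
    have e := secClass_mul_eq hdim'.le hJ' σ' hσ' j' hj' (P x) (Q x₀) (P x₀) (Q x) (by
      rw [point_eq j j' β _ c₁ s h₁, point_eq j j' β _ c₂ s h₂, point_eq j j' β _ c₁ s h₁,
        point_eq j j' β _ c₂ s h₂]
      ac_rfl)
    simpa only [secClass_eq_ptClass hdim'] using e
  have hcl : ∀ (z w : U ⟶ Over.mk qD), b z = b w → pnt z = pnt w := fun z w h =>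
    eq_of_ptClass_eq hdim' (by omega) _ _ h
  have hu : ∀ a : PicM C', IsUnit a := fun a => IsUnit.of_mul_eq_one _ (PicM.exists_mul_eq_one a).choose_spec
  have hb : p x₀ = r x₀ := by
    by_contra hne
    have hcases : ∀ x, x ≠ x₀ → ∃ (L : C'.Modules) (hL : PicF.IsInvertible L), Curv2.deg k C' L 1 = 2 ∧
        2 ≤ Module.finrank k (Coh.HH C' L 0) ∧ PicM.of hL * (b (P x₀) * b (Q x)) = 1 := by
      intro x hx
      rcases pair_cases hdim' (isClosed_pnt (P x₀)) (isClosed_pnt (Q x)) (isClosed_pnt (P x))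
        (isClosed_pnt (Q x₀)) (hrel x).symm with (h | h) | h
      · exact absurd (hpinj h) hx
      · have e : b (P x) = b (Q x) := by rw [pnt_injective h]
        have e2 : b (Q x) * b (Q x₀) = b (Q x) * b (P x₀) := by rw [← e, hrel x, e, mul_comm]
        exact absurd (hcl _ _ ((hu _).mul_left_cancel e2)).symm hne
      · exact h
    obtain ⟨x, hx⟩ := exists_pt_notMem hdim {x₀} (Set.finite_singleton _)
    obtain ⟨y, hy⟩ := exists_pt_notMem hdim {x₀, x} (Set.toFinite _)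
    simp only [Set.mem_insert_iff, Set.mem_singleton_iff, not_or] at hx hy
    obtain ⟨L, hL, hd, h0, e⟩ := hcases x hx
    obtain ⟨M, hM, hd', h0', e'⟩ := hcases y hy.1
    have hLM : PicM.of hL = PicM.of hM :=
      (PicM.of_eq_iff hL hM).2 (Clifford24.g12_unique k hdim' hg hL hM hd hd' h0 h0')
    rw [← hLM] at e'
    have := (hu (b (P x₀))).mul_left_cancel ((hu (PicM.of hL)).mul_left_cancel (e.trans e'.symm))
    exact hy.2 (hrinj (hcl _ _ this)).symm
  have hall : ∀ x, p x = r x := fun x => by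
    have hpq : b (P x₀) = b (Q x₀) := by rw [pnt_injective hb]
    have h := hrel x
    rw [← hpq, mul_comm (b (P x₀)) (b (Q x))] at h
    exact hcl _ _ ((hu _).mul_right_cancel h)
  have hαe : α₁.hom = α₂.hom := hom_ext_pnt hα₁ hα₂ hall
  refine ⟨Iso.ext hαe, ?_⟩
  have hPQ : P x₀ = Q x₀ := pnt_injective hb
  have h : (x₀ ≫ j ≫ β) ^ s * c₁ = (x₀ ≫ j ≫ β) ^ s * c₂ := by
    rw [← point_eq j j' β _ c₁ s h₁, ← point_eq j j' β _ c₂ s h₂]
    exact congrArg (· ≫ j') hPQ
  exact mul_left_cancel h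

/-- For curves which are not hyperelliptic the sign is unique too. -/
theorem sign_eq_of_not_hyperelliptic (hdim : topologicalKrullDim C = 1) (hdim' : topologicalKrullDim C' = 1)
    (hg : 2 ≤ Curv2.genus k C') (σ : Spec (CommRingCat.of k) ⟶ C) (hσ : σ ≫ qC = 𝟙 _)
    (σ' : Spec (CommRingCat.of k) ⟶ C') (hσ' : σ' ≫ qD = 𝟙 _) {ψ' : (ModFun.PicDeg qD 0).Hom ⊤ J'}
    (hJ' : Jac.IsJacobian qD ⊤ J' ψ') (j : Over.mk qC ⟶ J) (j' : Over.mk qD ⟶ J')
    (hj' : Jac.IsAbelJacobiAt qD σ' ψ' j') (β : J ⟶ J')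
    (α₁ α₂ : C ≅ C') (hα₁ : α₁.hom ≫ qD = qC) (hα₂ : α₂.hom ≫ qD = qC)
    (hnh : ¬ ∃ L : C.Modules, PicF.IsInvertible L ∧ Curv2.deg k C L 1 = 2 ∧ Module.finrank k (Coh.HH C L 0) = 2)
    (c₁ c₂ : U ⟶ J') (s₁ s₂ : ℤ) (hs : s₂ = -s₁)
    (h₁ : (Over.homMk α₁.hom hα₁ : Over.mk qC ⟶ Over.mk qD) ≫ j' = (j ≫ β) ^ s₁ * (toUnit (Over.mk qC) ≫ c₁))
    (h₂ : (Over.homMk α₂.hom hα₂ : Over.mk qC ⟶ Over.mk qD) ≫ j' = (j ≫ β) ^ s₂ * (toUnit (Over.mk qC) ≫ c₂)) :
    False := by
  haveI := GenSmoothLib.smoothOfRelativeDimension_toField qD (d := 1) (by rw [hdim']; rfl)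
  haveI : GeometricallyIntegral qD := AbVarLib.geometricallyIntegral_of_isAlgClosed qD
  let x₀ : U ⟶ Over.mk qC := Over.homMk σ hσ
  let P : (U ⟶ Over.mk qC) → (U ⟶ Over.mk qD) := fun x => x ≫ Over.homMk α₁.hom hα₁
  let Q : (U ⟶ Over.mk qC) → (U ⟶ Over.mk qD) := fun x => x ≫ Over.homMk α₂.hom hα₂
  let b := fun z : U ⟶ Over.mk qD => ptClass (k := k) hdim' (isClosed_pnt z)
  have hsum : ∀ x, (P x ≫ j') * (Q x ≫ j') = c₁ * c₂ := fun x => by
    rw [point_eq j j' β _ c₁ s₁ h₁, point_eq j j' β _ c₂ s₂ h₂, hs, zpow_neg, mul_mul_mul_comm, mul_inv_cancel,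
      _root_.one_mul]
  have hrel : ∀ x, b (P x₀) * b (Q x₀) = b (P x) * b (Q x) := fun x => by
    have e := secClass_mul_eq hdim'.le hJ' σ' hσ' j' hj' (P x₀) (Q x₀) (P x) (Q x)
      ((hsum x₀).trans (hsum x).symm)
    simpa only [secClass_eq_ptClass hdim'] using e
  have hno : ¬ ∃ (L : C'.Modules) (_ : PicF.IsInvertible L), Curv2.deg k C' L 1 = 2 ∧
      2 ≤ Module.finrank k (Coh.HH C' L 0) := by
    rintro ⟨L, hL, hd, h0⟩
    haveI := EulerLib.isNoetherian_of_proper k (X := C')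
    have hle := CurveRR24.h0_le_deg k hdim'.le (by omega) hL (by omega)
    have hpb : IsPullback α₁.hom qC qD (Spec.map (CommRingCat.ofHom (algebraMap k k))) := by
      rw [show CommRingCat.ofHom (algebraMap k k) = 𝟙 _ from rfl, Spec.map_id]
      exact IsPullback.of_horiz_isIso ⟨by rw [Category.comp_id]; exact hα₁⟩
    haveI := isQCoh_of_isInvertible hL
    refine hnh ⟨(Scheme.Modules.pullback α₁.hom).obj L, PicLoc.isInvertible_pullback _ hL, ?_, ?_⟩
    · rw [deg_bc hpb, hd]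
    · rw [finrank_HH_bc hpb]; omega
  have hor : ∀ x, P x = P x₀ ∨ P x = Q x₀ := by
    intro x
    rcases pair_cases hdim' (isClosed_pnt (P x₀)) (isClosed_pnt (Q x₀)) (isClosed_pnt (P x))
      (isClosed_pnt (Q x)) (hrel x) with (h | h) | ⟨L, hL, hd, h0, -⟩
    · exact Or.inl (pnt_injective h)
    · exact Or.inr (pnt_injective h)
    · exact absurd ⟨L, hL, hd, h0⟩ hno
  have hPinj : Function.Injective P := fun x y h =>
    pnt_injective (α₁.hom.homeomorph.injective (congrArg pnt h))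
  obtain ⟨x, hx⟩ := exists_pt_notMem hdim (P ⁻¹' {P x₀, Q x₀})
    ((Set.toFinite _).preimage hPinj.injOn)
  exact hx (hor x)

end Groth.Agent.JacAJ27
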