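import Groth.Agent.JacAJ27.GeomPts
import Groth.Agent.JacAJ27.TorelliUnique
import Groth.Agent.H8Lim.ProjLinePow
import Groth.Prelude.Def_SymProd

/-!
# Translates of the images of the symmetric powers in the Jacobian
-/

set_option autoImplicit false
set_option linter.style.haveILetI false
set_option backward.isDefEq.respectTransparency.types false
set_option maxHeartbeats 1000000

universe u

open CategoryTheory CategoryTheory.Limits AlgebraicGeometry MonoidalCategory CartesianMonoidalCategory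
open scoped MonObj
open Groth.Agent.PicLib Groth.Agent.AmpleLib Groth.Agent.CurveRR24

namespace Groth.Agent.JacAJ27

theorem locallyOfFiniteType_fibPow_base {S P : Scheme.{u}} (p : P ⟶ S) [LocallyOfFiniteType p] :
    ∀ n : ℕ, LocallyOfFiniteType (WidePullback.base (fun _ : Fin n => p)) := by
  intro n
  induction n with
  | zero =>
    haveI : IsIso (WidePullback.base (fun _ : Fin 0 => p)) :=
      ⟨WidePullback.lift (𝟙 S) (fun j : Fin 0 => j.elim0) (fun j => j.elim0),
        WidePullback.hom_ext _ _ _ (fun j => j.elim0)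
          (by rw [Category.assoc, WidePullback.lift_base, Category.comp_id, Category.id_comp]),
        WidePullback.lift_base _ _ _ _⟩
    infer_instance
  | succ n ih =>
    obtain ⟨e, he⟩ := H8Lim.ProjLineProd.exists_split p n
    rw [← he]
    haveI := ih
    infer_instance

variable {k : Type u} [Field k] {C : Scheme.{u}} [C.Over (Spec (CommRingCat.of k))]
  [IsProper (C ↘ Spec (CommRingCat.of k))]
variable {J : Over (Spec (CommRingCat.of k))} [GrpObj J] [IsCommMonObj J]

local notation "qC" => C ↘ Spec (CommRingCat.of k)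

/-- The sum map on the `n`-th power of the curve. -/
noncomputable abbrev sumMap (j : Over.mk qC ⟶ J) (n : ℕ) :
    Over.mk (WidePullback.base fun _ : Fin n => qC) ⟶ J :=
  (List.ofFn fun i : Fin n => (Over.homMk (WidePullback.π (fun (_ : Fin n) => qC) i)
    (WidePullback.π_arrow (fun (_ : Fin n) => qC) i) :
      Over.mk (WidePullback.base fun _ : Fin n => qC) ⟶ Over.mk qC) ≫ j).prod

/-- The sums of `n` values of the Abel map at the `T`-points. -/
def Sums (j : Over.mk qC ⟶ J) (T : Over (Spec (CommRingCat.of k))) (n : ℕ) : Set (T ⟶ J) :=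
  {a | ∃ x : Fin n → (T ⟶ Over.mk qC), ∏ i, x i ≫ j = a}

theorem comp_sumMap (j : Over.mk qC ⟶ J) {n : ℕ} {T : Over (Spec (CommRingCat.of k))}
    (y : T ⟶ Over.mk (WidePullback.base fun _ : Fin n => qC)) :
    y ≫ sumMap j n = ∏ i, (y ≫ (Over.homMk (WidePullback.π (fun (_ : Fin n) => qC) i)
      (WidePullback.π_arrow (fun (_ : Fin n) => qC) i) :
        Over.mk (WidePullback.base fun _ : Fin n => qC) ⟶ Over.mk qC)) ≫ j := by
  let F : (Over.mk (WidePullback.base fun _ : Fin n => qC) ⟶ J) →* (T ⟶ J) :=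
    { toFun := fun a => y ≫ a
      map_one' := MonObj.comp_one y
      map_mul' := fun a b => MonObj.comp_mul y a b }
  show F _ = _
  rw [sumMap, map_list_prod, List.map_ofFn, List.prod_ofFn]
  refine Finset.prod_congr rfl fun i _ => ?_
  exact (Category.assoc y _ j).symm

theorem mem_sums_iff_exists_lift (j : Over.mk qC ⟶ J) {n : ℕ} {T : Over (Spec (CommRingCat.of k))} (a : T ⟶ J) :
    a ∈ Sums j T n ↔ ∃ y : T ⟶ Over.mk (WidePullback.base fun _ : Fin n => qC), y ≫ sumMap j n = a := by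
  constructor
  · rintro ⟨x, rfl⟩
    refine ⟨Over.homMk (WidePullback.lift T.hom (fun i => (x i).left) fun i => Over.w (x i))
      (WidePullback.lift_base _ _ _ _), ?_⟩
    rw [comp_sumMap]
    refine Finset.prod_congr rfl fun i _ => congrArg (· ≫ j) (Over.OverMorphism.ext ?_)
    exact WidePullback.lift_π _ _ _ _ i
  · rintro ⟨y, rfl⟩
    exact ⟨_, (comp_sumMap j y).symm⟩

theorem mul_mem_sums (j : Over.mk qC ⟶ J) {T : Over (Spec (CommRingCat.of k))} {m n : ℕ} {a b : T ⟶ J}
    (ha : a ∈ Sums j T m) (hb : b ∈ Sums j T n) : a * b ∈ Sums j T (m + n) := by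
  obtain ⟨x, rfl⟩ := ha
  obtain ⟨y, rfl⟩ := hb
  refine ⟨Fin.append x y, ?_⟩
  rw [Fin.prod_univ_add]
  simp [Fin.append_left, Fin.append_right]

section Points

variable (Ω : Type u) [Field Ω] [Algebra k Ω]

/-- A rational point as a geometric point. -/
noncomputable def cst {G : Over (Spec (CommRingCat.of k))} (a : 𝟙_ (Over (Spec (CommRingCat.of k))) ⟶ G) :
    tPt Ω ⟶ G := toUnit (tPt Ω) ≫ a

theorem cst_mul (a b : 𝟙_ (Over (Spec (CommRingCat.of k))) ⟶ J) : cst Ω (a * b) = cst Ω a * cst Ω b :=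
  MonObj.comp_mul _ _ _

theorem cst_inv (a : 𝟙_ (Over (Spec (CommRingCat.of k))) ⟶ J) : cst Ω a⁻¹ = (cst Ω a)⁻¹ :=
  GrpObj.comp_inv _ _

theorem cst_comp {G : Over (Spec (CommRingCat.of k))} (a : 𝟙_ (Over (Spec (CommRingCat.of k))) ⟶ G) (f : G ⟶ J) :
    cst Ω (a ≫ f) = cst Ω a ≫ f := (Category.assoc _ _ _).symm

theorem cst_apply {G : Over (Spec (CommRingCat.of k))} (a : 𝟙_ (Over (Spec (CommRingCat.of k))) ⟶ G)
    (p : Spec (CommRingCat.of Ω)) (p₀ : Spec (CommRingCat.of k)) : (cst Ω a).left p = a.left p₀ := by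
  show a.left ((toUnit (tPt Ω)).left p) = a.left p₀
  exact congrArg _ (Subsingleton.elim (α := PrimeSpectrum k) _ _)

theorem cst_sum_mem (j : Over.mk qC ⟶ J) {n : ℕ}
    {a : 𝟙_ (Over (Spec (CommRingCat.of k))) ⟶ J} (ha : a ∈ Sums j (𝟙_ (Over (Spec (CommRingCat.of k)))) n) :
    cst Ω a ∈ Sums j (tPt Ω) n := by
  obtain ⟨x, rfl⟩ := ha
  refine ⟨fun i => cst Ω (x i), ?_⟩
  let F : (𝟙_ (Over (Spec (CommRingCat.of k))) ⟶ J) →* (tPt Ω ⟶ J) :=
    { toFun := cst Ω
      map_one' := MonObj.comp_one _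
      map_mul' := cst_mul Ω }
  show _ = F _
  rw [map_prod]
  exact Finset.prod_congr rfl fun i _ => (cst_comp Ω (x i) j).symm

theorem comp_transl {T : Over (Spec (CommRingCat.of k))} (y : T ⟶ J) (b : 𝟙_ (Over (Spec (CommRingCat.of k))) ⟶ J) :
    y ≫ Jac.transl J b = y * (toUnit T ≫ b) := by
  rw [Jac.transl, MonObj.comp_mul, Category.comp_id, ← Category.assoc, toUnit_unique (y ≫ toUnit J) (toUnit T)]

variable {Ω}

/-- The Nullstellensatz: points of the image lift. -/
theorem mem_range_iff_exists_lift [IsAlgClosed Ω] {Y : Over (Spec (CommRingCat.of k))} [LocallyOfFiniteType Y.hom]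
    (g : Y ⟶ J) (a : tPt Ω ⟶ J) :
    (∀ p, a.left p ∈ Set.range g.left) ↔ ∃ y : tPt Ω ⟶ Y, y ≫ g = a := by
  constructor
  · intro h
    haveI : LocallyOfFiniteType (g.left ≫ J.hom) := by rw [Over.w]; infer_instance
    haveI : LocallyOfFiniteType g.left := locallyOfFiniteType_of_comp g.left J.hom
    let a' : Spec (CommRingCat.of Ω) ⟶ J.left := a.left
    obtain ⟨w, hw⟩ := h (IsLocalRing.closedPoint Ω)
    obtain ⟨z, -, -⟩ := Scheme.Pullback.exists_preimage_pullback (f := g.left) (g := a') w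
      (IsLocalRing.closedPoint Ω) hw
    haveI : JacobsonSpace ↥(pullback g.left a') := LocallyOfFiniteType.jacobsonSpace (pullback.snd g.left a')
    obtain ⟨c, -, hc⟩ := nonempty_inter_closedPoints (X := ↥(pullback g.left a')) (Z := Set.univ)
      ⟨z, trivial⟩ isClosed_univ.isLocallyClosed
    let s := pointOfClosedPoint (pullback.snd g.left a') c hc
    have hs : s ≫ pullback.snd g.left a' = 𝟙 _ := pointOfClosedPoint_comp _ _ _
    have e : (s ≫ pullback.fst g.left a') ≫ g.left = a' := by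
      rw [Category.assoc, pullback.condition, ← Category.assoc, hs, Category.id_comp]
    refine ⟨Over.homMk (s ≫ pullback.fst g.left a') ?_, Over.OverMorphism.ext e⟩
    rw [← Over.w g]
    exact (Category.assoc _ _ _).symm.trans ((congrArg (· ≫ J.hom) e).trans (Over.w a))
  · rintro ⟨y, rfl⟩ p
    exact ⟨y.left p, rfl⟩

theorem mem_translate_sums_iff [IsAlgClosed Ω] (j : Over.mk qC ⟶ J) (n : ℕ)
    (b : 𝟙_ (Over (Spec (CommRingCat.of k))) ⟶ J) (a : tPt Ω ⟶ J) :
    (∀ p, a.left p ∈ (Jac.transl J b).left '' Set.range (sumMap j n).left) ↔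
      a * (cst Ω b)⁻¹ ∈ Sums j (tPt Ω) n := by
  haveI : LocallyOfFiniteType (Over.mk (WidePullback.base fun _ : Fin n => qC)).hom :=
    locallyOfFiniteType_fibPow_base qC n
  have e : (Jac.transl J b).left '' Set.range (sumMap j n).left = Set.range (sumMap j n ≫ Jac.transl J b).left :=
    (Set.range_comp _ _).symm
  rw [e, mem_range_iff_exists_lift, mem_sums_iff_exists_lift]
  refine exists_congr fun y => ?_
  rw [← Category.assoc, comp_transl, eq_mul_inv_iff_mul_eq]
  rfl

theorem exists_geomPt {Y : Over (Spec (CommRingCat.of k))} (z : Y.left) :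
    ∃ (Ω : Type u) (_ : Field Ω) (_ : IsAlgClosed Ω) (_ : Algebra k Ω) (a : tPt Ω ⟶ Y),
      ∀ p, a.left p = z := by
  let Ω := AlgebraicClosure (Y.left.residueField z)
  let s : Spec (CommRingCat.of Ω) ⟶ Y.left :=
    Spec.map (CommRingCat.ofHom (algebraMap (Y.left.residueField z) Ω)) ≫ Y.left.fromSpecResidueField z
  obtain ⟨φ, hφ⟩ := Spec.map_surjective (s ≫ Y.hom)
  letI : Algebra k Ω := φ.hom.toAlgebra
  refine ⟨Ω, inferInstance, inferInstance, inferInstance, Over.homMk s hφ.symm, fun p => ?_⟩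
  have h : s p ∈ Set.range (Y.left.fromSpecResidueField z) := ⟨_, rfl⟩
  rw [Scheme.range_fromSpecResidueField] at h
  exact h

end Points

section Core

variable [Smooth (C ↘ Spec (CommRingCat.of k))] [IsIntegral C] [GeometricallyIntegral (C ↘ Spec (CommRingCat.of k))]
  [IsAlgClosed k]
variable {ψ : (ModFun.PicDeg (C ↘ Spec (CommRingCat.of k)) 0).Hom ⊤ J} (hJ : Jac.IsJacobian (C ↘ Spec (CommRingCat.of k)) ⊤ J ψ) (hdim : topologicalKrullDim C = 1)
  {σ : Spec (CommRingCat.of k) ⟶ C} (hσ : σ ≫ (C ↘ Spec (CommRingCat.of k)) = 𝟙 _) {j : Over.mk (C ↘ Spec (CommRingCat.of k)) ⟶ J}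
  (hj : Jac.IsAbelJacobiAt (C ↘ Spec (CommRingCat.of k)) σ ψ j)
variable {Ω : Type u} [Field Ω] [IsAlgClosed Ω] [Algebra k Ω]

include hJ hdim hσ hj

theorem cls_sum_mul {n : ℕ} (x : Fin n → (tPt Ω ⟶ Over.mk qC)) :
    cls hJ (∏ i, x i ≫ j) * ∏ i, ptClass (k := Ω) (dim_XPt hdim) (isClosed_secPt (x i)) =
      baseCls σ hσ hdim ^ n := by
  let F : (tPt Ω ⟶ J) →* PicM (XPt (k := k) C Ω) :=
    { toFun := cls hJ
      map_one' := cls_one hJ hdim.le
      map_mul' := cls_mul hJ hdim.le }
  show F _ * _ = _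
  rw [map_prod, ← Finset.prod_mul_distrib]
  show ∏ i, cls hJ (x i ≫ j) * _ = _
  rw [Finset.prod_congr rfl fun i _ => cls_comp hJ hdim hσ hj (x i)]
  simp

theorem degCls_baseCls_inv {c' : PicM (XPt (k := k) C Ω)} (hc : baseCls σ hσ hdim * c' = 1) (x₀ : tPt Ω ⟶ Over.mk qC) :
    degCls Ω c' = 1 := by
  have h1 := congrArg (degCls Ω) hc
  have h2 := congrArg (degCls Ω) (cls_comp hJ hdim hσ hj x₀)
  rw [degCls_mul (dim_XPt hdim).le, degCls_one] at h1
  rw [degCls_mul (dim_XPt hdim).le, degCls_cls, degCls_ptClass] at h2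
  omega

theorem mem_sums_iff {c' : PicM (XPt (k := k) C Ω)} (hc : baseCls σ hσ hdim * c' = 1) (n : ℕ) (a : tPt Ω ⟶ J) :
    a ∈ Sums j (tPt Ω) n ↔ 0 < h0Cls Ω (cls hJ a * c' ^ n) := by
  constructor
  · rintro ⟨x, rfl⟩
    refine h0Cls_pos_of_effective (dim_XPt hdim) n _ (fun i => geomPnt (x i)) (fun i => isClosed_secPt (x i)) ?_
    rw [mul_right_comm, cls_sum_mul hJ hdim hσ hj x, ← mul_pow, hc, one_pow]
  · intro h
    have hd : degCls Ω (cls hJ a * c' ^ n) = n := by
      have x₀ : tPt Ω ⟶ Over.mk qC := cst Ω (Over.homMk σ hσ)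
      have hc1 := degCls_baseCls_inv hJ hdim hσ hj hc x₀
      rw [degCls_mul (dim_XPt hdim).le, degCls_cls, zero_add]
      clear h
      induction n with
      | zero => simp [degCls_one]
      | succ n ih => rw [pow_succ, degCls_mul (dim_XPt hdim).le, ih, hc1]; push_cast; ring
    obtain ⟨P, hP, e⟩ := exists_effective (dim_XPt hdim) n _ hd h
    choose x hx using fun i => exists_geomPnt_eq (hP i)
    refine ⟨x, cls_injective hJ ?_⟩
    have hP' : ∀ i, ptClass (k := Ω) (dim_XPt hdim) (hP i) = ptClass (k := Ω) (dim_XPt hdim) (isClosed_secPt (x i)) := by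
      intro i
      have key : ∀ {A B : XPt (k := k) C Ω} (hA : IsClosed ({A} : Set (XPt (k := k) C Ω)))
          (hB : IsClosed ({B} : Set (XPt (k := k) C Ω))), A = B →
          ptClass (k := Ω) (dim_XPt hdim) hA = ptClass (k := Ω) (dim_XPt hdim) hB := by
        intro A B hA hB h
        subst h
        rfl
      exact key _ _ (hx i).symm
    rw [Finset.prod_congr rfl fun i _ => hP' i] at e
    have h2 := cls_sum_mul hJ hdim hσ hj x
    refine (isUnit_cls (∏ i, ptClass (k := Ω) (dim_XPt hdim) (isClosed_secPt (x i)))).mul_right_cancel ?_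
    rw [h2]
    calc baseCls σ hσ hdim ^ n
        = baseCls σ hσ hdim ^ n * (cls hJ a * c' ^ n * ∏ i, ptClass (k := Ω) (dim_XPt hdim) (isClosed_secPt (x i))) := by
          rw [e, _root_.mul_one]
      _ = (baseCls σ hσ hdim * c') ^ n * (cls hJ a * ∏ i, ptClass (k := Ω) (dim_XPt hdim) (isClosed_secPt (x i))) := by
          rw [mul_pow]; ac_rfl
      _ = _ := by rw [hc, one_pow, _root_.one_mul]

/-- If every translate by `r` rational points is a sum of `g - 1` points, then `g - 1 - r` points suffice. -/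
theorem mem_sums_of_forall (g : ℕ) (hg : Curv2.genus k C = g) : ∀ (r m : ℕ), m + r = g - 1 → ∀ a : tPt Ω ⟶ J,
    (∀ D : Fin r → (𝟙_ (Over (Spec (CommRingCat.of k))) ⟶ Over.mk qC),
      a * cst Ω (∏ i, D i ≫ j) ∈ Sums j (tPt Ω) (g - 1)) → a ∈ Sums j (tPt Ω) m := by
  obtain ⟨c', hc⟩ := PicM.exists_mul_eq_one (baseCls (Ω := Ω) σ hσ hdim)
  intro r
  induction r with
  | zero =>
    intro m hm a h
    have := h Fin.elim0
    rw [Finset.univ_eq_empty, Finset.prod_empty] at this
    rw [show cst Ω (1 : 𝟙_ (Over (Spec (CommRingCat.of k))) ⟶ J) = 1 from MonObj.comp_one _, _root_.mul_one] at this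
    rwa [show m = g - 1 by omega]
  | succ r ih =>
    intro m hm a h
    rw [mem_sums_iff hJ hdim hσ hj hc]
    by_contra h0
    have x₀ : tPt Ω ⟶ Over.mk qC := cst Ω (Over.homMk σ hσ)
    have hc1 := degCls_baseCls_inv hJ hdim hσ hj hc x₀
    have hdeg : degCls Ω (cls hJ a * c' ^ m) = m := by
      rw [degCls_mul (dim_XPt hdim).le, degCls_cls, zero_add]
      clear h0 hm
      induction m with
      | zero => simp [degCls_one]
      | succ n ih => rw [pow_succ, degCls_mul (dim_XPt hdim).le, ih, hc1]; push_cast; ring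
    obtain ⟨B, hB, hbad⟩ := exists_finite_bad (k := Ω) (dim_XPt hdim) (cls hJ a * c' ^ m) (Nat.eq_zero_of_not_pos h0)
      (by rw [hdeg, genus_XPt, hg]; omega)
    have hinj : Function.Injective
        fun x : 𝟙_ (Over (Spec (CommRingCat.of k))) ⟶ Over.mk qC => geomPnt (cst Ω x) := by
      intro x y hxy
      apply pnt_injective (k := k) (C := C)
      have hxy' := congrArg (pullback.fst qC (Spec.map (CommRingCat.ofHom (algebraMap k Ω)))) hxy
      have e : ∀ z : 𝟙_ (Over (Spec (CommRingCat.of k))) ⟶ Over.mk qC,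
          pullback.fst qC (Spec.map (CommRingCat.ofHom (algebraMap k Ω))) (geomPnt (cst Ω z)) = pnt z := fun z => by
        show (secPt (cst Ω z) ≫ pullback.fst qC _) (IsLocalRing.closedPoint Ω) = _
        rw [show secPt (cst Ω z) ≫ pullback.fst qC (Spec.map (CommRingCat.ofHom (algebraMap k Ω))) =
          (cst Ω z).left from pullback.lift_fst _ _ _]
        exact cst_apply Ω z (IsLocalRing.closedPoint Ω) (IsLocalRing.closedPoint k)
      rwa [e, e] at hxy'
    obtain ⟨P, hP⟩ := exists_pt_notMem hdim _ (hB.preimage hinj.injOn)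
    have hmem := ih (m + 1) (by omega) (a * cst Ω (P ≫ j)) fun D => by
      have := h (Fin.cons P D)
      rw [Fin.prod_univ_succ, cst_mul, ← _root_.mul_assoc] at this
      simpa only [Fin.cons_zero, Fin.cons_succ] using this
    rw [mem_sums_iff hJ hdim hσ hj hc] at hmem
    refine absurd hmem (Nat.not_lt.2 (le_of_eq ?_))
    refine hbad (geomPnt (cst Ω P)) (isClosed_secPt _) hP _ ?_
    rw [cls_mul hJ hdim.le, cst_comp, pow_succ]
    calc cls hJ a * cls hJ (cst Ω P ≫ j) * (c' ^ m * c') * ptClass (k := Ω) (dim_XPt hdim) (isClosed_secPt (cst Ω P))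
        = cls hJ a * c' ^ m * (c' * (cls hJ (cst Ω P ≫ j) *
            ptClass (k := Ω) (dim_XPt hdim) (isClosed_secPt (cst Ω P)))) := by ac_rfl
      _ = _ := by rw [cls_comp hJ hdim hσ hj, mul_comm c', hc, _root_.mul_one]

end Core

end Groth.Agent.JacAJ27

namespace Groth.Agent.JacAJ27

variable {k : Type u} [Field k] {C : Scheme.{u}} [C.Over (Spec (CommRingCat.of k))]
  [IsProper (C ↘ Spec (CommRingCat.of k))]
variable {J : Over (Spec (CommRingCat.of k))} [GrpObj J] [IsCommMonObj J]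

local notation "qC" => C ↘ Spec (CommRingCat.of k)

theorem mem_range_sums_iff {Ω : Type u} [Field Ω] [IsAlgClosed Ω] [Algebra k Ω] (j : Over.mk qC ⟶ J) (n : ℕ)
    (a : tPt Ω ⟶ J) : (∀ p, a.left p ∈ Set.range (sumMap j n).left) ↔ a ∈ Sums j (tPt Ω) n := by
  haveI : LocallyOfFiniteType (Over.mk (WidePullback.base fun _ : Fin n => qC)).hom :=
    locallyOfFiniteType_fibPow_base qC n
  rw [mem_range_iff_exists_lift, mem_sums_iff_exists_lift]

variable [Smooth (C ↘ Spec (CommRingCat.of k))] [IsIntegral C] [GeometricallyIntegral (C ↘ Spec (CommRingCat.of k))]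
  [IsAlgClosed k]
variable {ψ : (ModFun.PicDeg (C ↘ Spec (CommRingCat.of k)) 0).Hom ⊤ J}
  (hJ : Jac.IsJacobian (C ↘ Spec (CommRingCat.of k)) ⊤ J ψ) (hdim : topologicalKrullDim C = 1)
  {g : ℕ} (hg : Curv2.genus k C = g) {σ : Spec (CommRingCat.of k) ⟶ C}
  (hσ : σ ≫ (C ↘ Spec (CommRingCat.of k)) = 𝟙 _) {j : Over.mk (C ↘ Spec (CommRingCat.of k)) ⟶ J}
  (hj : Jac.IsAbelJacobiAt (C ↘ Spec (CommRingCat.of k)) σ ψ j)

include hJ hdim hg hσ hj

/-- A translate of the image of the `r`-th power lies in a translate of the theta divisor iff the difference is a sum of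
`g - 1 - r` points. -/
theorem translate_subset_iff (r : ℕ) (hr : r ≤ g - 1) (a b : 𝟙_ (Over (Spec (CommRingCat.of k))) ⟶ J) :
    (Jac.transl J a).left '' Set.range (sumMap j r).left ⊆ (Jac.transl J b).left '' Set.range (sumMap j (g - 1)).left ↔
      ∀ p, a.left p ∈ (Jac.transl J b).left '' Set.range (sumMap j (g - 1 - r)).left := by
  constructor
  · intro h p
    rw [← cst_apply k a (IsLocalRing.closedPoint k) p]
    revert p
    intro p
    refine (mem_translate_sums_iff (Ω := k) j (g - 1 - r) b (cst k a)).2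
      (mem_sums_of_forall hJ hdim hσ hj g hg r _ (by omega) _ fun D => ?_) _
    let a' : tPt k ⟶ J := cst k (∏ i, D i ≫ j) * cst k a
    have hmem : a' * (cst k a)⁻¹ ∈ Sums j (tPt k) r := by
      rw [mul_inv_cancel_right]
      exact cst_sum_mem k j ⟨D, rfl⟩
    have := (mem_translate_sums_iff j (g - 1) b a').1 fun p => h ((mem_translate_sums_iff j r a a').2 hmem p)
    convert this using 1
    simp only [a']
    ac_rfl
  · intro h z hz
    obtain ⟨Ω, _, _, _, az, haz⟩ := exists_geomPt (Y := J) z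
    have h1 := (mem_translate_sums_iff j r a az).1 fun p => (haz p).symm ▸ hz
    have h2 := (mem_translate_sums_iff j (g - 1 - r) b (cst Ω a)).1 fun p => by
      rw [cst_apply Ω a p (IsLocalRing.closedPoint k)]
      exact h _
    have h3 := mul_mem_sums j h1 h2
    rw [show r + (g - 1 - r) = g - 1 by omega,
      show az * (cst Ω a)⁻¹ * (cst Ω a * (cst Ω b)⁻¹) = az * (cst Ω b)⁻¹ by group] at h3
    exact haz (IsLocalRing.closedPoint Ω) ▸ (mem_translate_sums_iff j (g - 1) b az).2 h3 _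

/-- The image of the `(g - 1 - r)`-th power is cut out by translates of the theta divisor. -/
theorem range_eq_iInter (r : ℕ) (hr : r ≤ g - 1) :
    Set.range (sumMap j (g - 1 - r)).left =
      ⋂ (a : 𝟙_ (Over (Spec (CommRingCat.of k))) ⟶ J) (_ : ∀ p, a.left p ∈ Set.range (sumMap j r).left),
        (Jac.transl J a⁻¹).left '' Set.range (sumMap j (g - 1)).left := by
  refine Set.Subset.antisymm (Set.subset_iInter₂ fun a ha z hz => ?_) fun z hz => ?_
  · obtain ⟨Ω, _, _, _, az, haz⟩ := exists_geomPt (Y := J) z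
    have h1 := (mem_range_sums_iff j (g - 1 - r) az).1 fun p => (haz p).symm ▸ hz
    have h2 := (mem_range_sums_iff j r (cst Ω a)).1 fun p => by
      rw [cst_apply Ω a p (IsLocalRing.closedPoint k)]
      exact ha _
    have h3 := mul_mem_sums j h1 h2
    rw [show g - 1 - r + r = g - 1 by omega] at h3
    refine haz (IsLocalRing.closedPoint Ω) ▸ (mem_translate_sums_iff j (g - 1) a⁻¹ az).2 ?_ _
    rwa [cst_inv, inv_inv]
  · obtain ⟨Ω, _, _, _, az, haz⟩ := exists_geomPt (Y := J) z
    refine haz (IsLocalRing.closedPoint Ω) ▸ (mem_range_sums_iff j (g - 1 - r) az).2 ?_ _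
    refine mem_sums_of_forall hJ hdim hσ hj g hg r _ (by omega) _ fun D => ?_
    let a := ∏ i, D i ≫ j
    have ha : ∀ p, a.left p ∈ Set.range (sumMap j r).left := fun p => by
      rw [← cst_apply k a (IsLocalRing.closedPoint k) p]
      exact (mem_range_sums_iff j r (cst k a)).2 (cst_sum_mem k j ⟨D, rfl⟩) _
    have h := (mem_translate_sums_iff j (g - 1) a⁻¹ az).1 fun p => (haz p).symm ▸ Set.mem_iInter₂.1 hz a ha
    rwa [cst_inv, inv_inv] at h

end Groth.Agent.JacAJ27
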